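import Mathlib
import Cfsg.Agent.Lib.KInf.FusionCor
import Cfsg.Agent.Lib.Thompson.NPCFunctor
import Cfsg.Agent.Lib.PStab.Section

/-!
A functor controlling strong fusion in the `p`-stable sections reduces normal `p`-complements to the
normalizer of its value on a Sylow subgroup.
-/

set_option autoImplicit false
open Subgroup
open scoped commutatorElement

namespace Cfsg.Agent.Lib.KInf

universe u

open Cfsg Cfsg.Agent.Lib.FPF

/-- Every `2`-subgroup is abelian. -/
def AbTwo (X : Type*) [Group X] : Prop :=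
  ∀ T : Subgroup X, IsPGroup 2 ↥T → ∀ x ∈ T, ∀ y ∈ T, x * y = y * x

lemma AbTwo.subgroup {X : Type*} [Group X] (h : AbTwo X) (H : Subgroup X) : AbTwo ↥H := fun T hT x hx y hy =>
  Subtype.ext (h (T.map H.subtype) (hT.map _) _ (mem_map_of_mem _ hx) _ (mem_map_of_mem _ hy))

lemma AbTwo.of_surj {X Y : Type*} [Group X] [Finite X] [Group Y] (h : AbTwo X) (f : X →* Y)
    (hf : Function.Surjective f) : AbTwo Y := by
  intro T hT
  haveI : Fact (Nat.Prime 2) := ⟨Nat.prime_two⟩
  obtain ⟨S⟩ : Nonempty (Sylow 2 ↥(T.comap f)) := inferInstance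
  have hsurj : Function.Surjective (f.subgroupComap T) := f.subgroupComap_surjective_of_surjective T hf
  have hST : (S.mapSurjective hsurj : Subgroup ↥T) = ⊤ :=
    ((S.mapSurjective hsurj).is_maximal' (hT.to_subgroup ⊤) le_top).symm
  intro x hx y hy
  have key : ∀ z (hz : z ∈ T), ∃ s ∈ (S : Subgroup ↥(T.comap f)).map (T.comap f).subtype, f s = z := by
    intro z hz
    have h1 : (⟨z, hz⟩ : ↥T) ∈ (S.mapSurjective hsurj : Subgroup ↥T) := hST ▸ mem_top _
    rw [Sylow.coe_mapSurjective] at h1
    obtain ⟨s, hs, e⟩ := h1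
    exact ⟨s, mem_map_of_mem _ hs, congrArg Subtype.val e⟩
  obtain ⟨s, hs, rfl⟩ := key x hx
  obtain ⟨t, ht, rfl⟩ := key y hy
  rw [← map_mul, ← map_mul, h _ (S.2.map _) s hs t ht]

open Matrix MatrixGroups in
/-- `SL(2,p)` has a nonabelian `2`-subgroup for odd `p`. -/
lemma not_abTwo_sl2 (p : ℕ) [hp : Fact p.Prime] (hp2 : p ≠ 2) : ¬ AbTwo SL(2, ZMod p) := by
  intro h
  obtain ⟨a, b, hab⟩ := ZMod.sq_add_sq p (-1)
  let i : SL(2, ZMod p) := ⟨!![0, -1; 1, 0], by simp [Matrix.det_fin_two]⟩
  let j : SL(2, ZMod p) := ⟨!![a, b; b, -a], by simp [Matrix.det_fin_two]; linear_combination -hab⟩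
  have hI : (i : Matrix (Fin 2) (Fin 2) (ZMod p)) = !![0, -1; 1, 0] := rfl
  have hJ : (j : Matrix (Fin 2) (Fin 2) (ZMod p)) = !![a, b; b, -a] := rfl
  have hi : i * i = -1 := by
    apply Subtype.ext
    rw [Matrix.SpecialLinearGroup.coe_mul, Matrix.SpecialLinearGroup.coe_neg, Matrix.SpecialLinearGroup.coe_one, hI]
    ext r c; fin_cases r <;> fin_cases c <;> simp [Matrix.mul_apply, Fin.sum_univ_two]
  have hj : j * j = -1 := by
    apply Subtype.ext
    rw [Matrix.SpecialLinearGroup.coe_mul, Matrix.SpecialLinearGroup.coe_neg, Matrix.SpecialLinearGroup.coe_one, hJ]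
    ext r c; fin_cases r <;> fin_cases c <;> simp [Matrix.mul_apply, Fin.sum_univ_two] <;>
      first | linear_combination hab | linear_combination -hab | ring
  have hji : j * i = -(i * j) := by
    apply Subtype.ext
    rw [Matrix.SpecialLinearGroup.coe_mul, Matrix.SpecialLinearGroup.coe_neg, Matrix.SpecialLinearGroup.coe_mul, hI, hJ]
    ext r c; fin_cases r <;> fin_cases c <;> simp [Matrix.mul_apply, Fin.sum_univ_two]
  have hQ : IsPGroup 2 ↥(zpowers i ⊔ zpowers j) := by
    have h4 : ∀ x : SL(2, ZMod p), x * x = -1 → x ^ 2 ^ 2 = 1 := fun x hx => by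
      rw [show (2 : ℕ) ^ 2 = 2 * 2 by norm_num, pow_mul, pow_two x, hx, neg_one_sq]
    have hpi : IsPGroup 2 ↥(zpowers i) :=
      IsPGroup.of_card_dvd_pow (n := 2) (Nat.card_zpowers i ▸ orderOf_dvd_of_pow_eq_one (h4 i hi))
    have hpj : IsPGroup 2 ↥(zpowers j) :=
      IsPGroup.of_card_dvd_pow (n := 2) (Nat.card_zpowers j ▸ orderOf_dvd_of_pow_eq_one (h4 j hj))
    refine hpi.to_sup_of_normal_left' hpj ?_
    rw [zpowers_le]
    refine Cfsg.Agent.Lib.LocalFusion.mem_normalizer_of_map_conj_eq ?_
    rw [MonoidHom.map_zpowers]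
    show zpowers (j * i * j⁻¹) = zpowers i
    have e : j * i * j⁻¹ = i⁻¹ := by
      rw [mul_inv_eq_iff_eq_mul, eq_inv_mul_iff_mul_eq, hji, mul_neg, ← mul_assoc, hi, neg_mul, one_mul, neg_neg]
    rw [e, zpowers_inv]
  have hc := h _ hQ i (mem_sup_left (mem_zpowers i)) j (mem_sup_right (mem_zpowers j))
  rw [hji] at hc
  have h2 : (2 : ZMod p) ≠ 0 := by
    intro h0
    have : ((2 : ℕ) : ZMod p) = 0 := by simpa using h0
    rw [ZMod.natCast_eq_zero_iff] at this
    exact hp2 ((Nat.prime_dvd_prime_iff_eq hp.out Nat.prime_two).1 this)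
  have e1 : (1 : SL(2, ZMod p)) = -1 := mul_left_cancel (a := i * j) (by rwa [mul_one, mul_neg, mul_one])
  have e2 := congrFun (congrFun (congrArg Subtype.val e1) 0) 0
  simp at e2
  exact h2 (by linear_combination e2)

/-- Odd primes: groups with abelian `2`-subgroups are `p`-stable. -/
lemma isNormalizerPStable_of_abTwo {X : Type*} [Group X] [Finite X] {p : ℕ} [Fact p.Prime] (hp2 : p ≠ 2)
    (h : AbTwo X) : Cfsg.IsNormalizerPStable p X := by
  intro P hP g hg hq
  by_contra hbad
  set C := (centralizer (P : Set X)).subgroupOf (normalizer (P : Set X)) with hC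
  have hq' : ∀ x ∈ P, Commute g ⁅g, x⁆ := by
    intro x hx
    rw [← commutatorElement_inv]
    refine (Commute.inv_left ?_).symm
    exact commutatorElement_eq_one_iff_commute.mp (mem_bot.mp (hq ▸ commutator_mem_commutator
      (commutator_mem_commutator hx (mem_zpowers g)) (mem_zpowers g)))
  obtain ⟨L, π, -, -, hπ, -⟩ := PStab.exists_sl2_natural hP hp2 le_rfl hg hq' (fun D hD hDp hgD => by
    refine hbad ((Cfsg.Agent.Lib.Hall.le_pCore (N := D.map (QuotientGroup.mk' C)) ?_) (mem_map_of_mem _ hgD))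
    rintro ⟨_, d, hd, rfl⟩
    obtain ⟨n, hn⟩ := hDp d hd
    exact ⟨n, Subtype.ext ((QuotientGroup.eq_one_iff (d ^ p ^ n)).2 hn)⟩)
  exact not_abTwo_sl2 p hp2 ((h.subgroup L).of_surj π hπ)

variable {p : ℕ} [hp : Fact p.Prime] {W₀ : ∀ (Q : Type u) [Group Q], Subgroup Q}

/-- Control of fusion by `N(W(S))` where the normalizer has a normal `p`-complement. -/
lemma npc_of_csf {X : Type u} [Group X] [Finite X] {U : Subgroup X} (hc : Cfsg.ControlsStrongFusion p U)
    (hN : HasNormalPComplement p ↥(normalizer (U : Set X))) : HasNormalPComplement p X := by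
  obtain ⟨T, hUT, hA⟩ := hc
  set V := normalizer (U : Set X) with hV
  have hTV : (T : Subgroup X) ≤ V := by
    intro t ht
    obtain ⟨x, hx, he⟩ := (hA (U : Set X) hUT).2 t (by
      rintro _ ⟨a, ha, rfl⟩
      exact mul_mem (mul_mem ht (hUT ha)) (inv_mem ht))
    refine Cfsg.Agent.Lib.LocalFusion.mem_normalizer_of_map_conj_eq (SetLike.coe_injective ?_)
    refine Eq.trans ?_ (congrArg SetLike.coe (Cfsg.Agent.Lib.LocalFusion.map_conj_eq_of_mem_normalizer hx))
    rw [coe_map, coe_map]
    exact Set.image_congr fun a ha => by simpa using he a ha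
  have hf : Lib.Transfer.ControlsFusion V (T : Subgroup X) := fun x hx g hgx => by
    obtain ⟨v, hv, he⟩ := (hA {x} (Set.singleton_subset_iff.2 hx)).2 g (by rw [Set.image_singleton, Set.singleton_subset_iff]; exact hgx)
    exact ⟨v, hv, (he x rfl).symm⟩
  rw [Lib.Transfer.hasNormalPComplement_iff_inf T, inf_comm,
    Lib.Transfer.inf_pResidual_eq_of_controlsFusion T V hTV hf, inf_comm]
  refine Lib.Transfer.inf_eq_bot_of_not_dvd ?_ T.2
  rw [card_map_of_injective V.subtype_injective]
  exact Lib.Transfer.hasNormalPComplement_iff.1 hN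

lemma hyp_of_injective (hW : Cfsg.IsCharPFunctor.{u} p W₀) {G L : Type u} [Group G] [Group L] [Finite G]
    [Finite L] (f : L →* G) (hf : Function.Injective f) {S : Subgroup L} (hS : IsPGroup p ↥S)
    (h : HasNormalPComplement p (normalizer (Cfsg.inducedFunctor W₀ (S.map f) : Set G))) :
    HasNormalPComplement p (normalizer (Cfsg.inducedFunctor W₀ S : Set L)) := by
  let g : normalizer (Cfsg.inducedFunctor W₀ S : Set L) →* normalizer (Cfsg.inducedFunctor W₀ (S.map f) : Set G) :=
    (f.comp (Subgroup.subtype _)).codRestrict _ fun x => by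
      rw [induced_map hW f hS hf.injOn]
      exact le_normalizer_map f ⟨x, x.2, rfl⟩
  exact Lib.Transfer.HasNormalPComplement.of_injective g
    (fun x y e => Subtype.ext (hf (congrArg Subtype.val e))) h

theorem npc_sections_aux (hp2 : p ≠ 2) (hW : Cfsg.IsCharPFunctor.{u} p W₀) {G₀ : Type u} [Group G₀] [Finite G₀]
    (hctl : ∀ (X : Type u) [Group X] [Finite X], IsSec G₀ X → AbTwo X → ∀ T : Sylow p X,
      Cfsg.ControlsStrongFusion p (Cfsg.inducedFunctor W₀ (T : Subgroup X))) (n : ℕ) :
    ∀ (G : Type u) [Group G] [Finite G], IsSec G₀ G → ∀ (P : Sylow p G), Nat.card G = n →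
      HasNormalPComplement p (normalizer (Cfsg.inducedFunctor W₀ (P : Subgroup G) : Set G)) →
      HasNormalPComplement p G := by
  induction n using Nat.strongRecOn with | ind n ih => ?_
  intro G _ _ hsec P hn hyp
  classical
  by_contra hG
  -- proper subgroups containing the Sylow subgroup
  have step1 : ∀ L : Subgroup G, (P : Subgroup G) ≤ L → L ≠ ⊤ → HasNormalPComplement p L := by
    intro L hL hne
    refine ih (Nat.card L) (hn ▸ Lib.Coprime.card_lt_of_ne_top hne) L (hsec.subgroup L) (P.subtype hL) rfl ?_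
    refine hyp_of_injective hW L.subtype L.subtype_injective (P.subtype hL).2 ?_
    rw [Sylow.coe_subtype, map_subgroupOf_eq_of_le hL]
    exact hyp
  -- no normal p'-subgroup
  have hcore : ∀ U : Subgroup G, U.Normal → (Nat.card U).Coprime p → U = ⊥ := by
    intro U hUn hU
    by_contra hne
    apply hG
    refine npc_of_quotient U hU (ih _ (hn ▸ Lib.Coprime.card_quotient_lt hne) (G ⧸ U) (hsec.quot U)
      (P.mapSurjective (QuotientGroup.mk'_surjective U)) rfl ?_)
    rw [Sylow.coe_mapSurjective, induced_map hW (QuotientGroup.mk' U) P.2 (fun x hx y hy e => by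
      have hb : (P : Subgroup G) ⊓ U = ⊥ := disjoint_iff.mp (disjoint_of_coprime_natCard (by
        rw [P.card_eq_multiplicity]; exact hU.symm.pow_left _))
      have := hb.le ⟨(P : Subgroup G).mul_mem ((P : Subgroup G).inv_mem hx) hy, QuotientGroup.eq.1 e⟩
      exact inv_mul_eq_one.1 (mem_bot.1 this))]
    refine npc_subgroup_of_le (normalizer_map_le_map_normalizer U hU (P.2.to_le (induced_le _))) ?_
    exact Lib.Transfer.HasNormalPComplement.of_surjective _ (MonoidHom.subgroupMap_surjective _ _) hyp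
  -- the maximal bad local subgroup is the whole group
  let 𝓗 : Set (Subgroup G) :=
    {Q | IsPGroup p Q ∧ Q ≠ ⊥ ∧ ¬ HasNormalPComplement p (normalizer (Q : Set G))}
  have h𝓗 : 𝓗.Nonempty := by
    by_contra hempty
    apply hG
    refine Lib.Transfer.frobenius_criterion fun Q hQ => ?_
    by_cases hQb : Q = ⊥
    · subst hQb
      intro g _ _
      rw [mem_centralizer_iff]
      intro x hx
      rw [mem_bot.1 hx, one_mul, mul_one]
    · refine Lib.Transfer.autPGroup_of_hasNormalPComplement hQ ?_
      by_contra h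
      exact hempty ⟨Q, hQ, hQb, h⟩
  have hbot : pCore p G ≠ ⊥ := by
    obtain ⟨H, hH, hmax⟩ := Set.exists_max_image 𝓗
      (fun Q : Subgroup G => (Nat.card (normalizer (Q : Set G))).factorization p) 𝓗.toFinite h𝓗
    obtain ⟨hHp, hHne, hHN⟩ := hH
    set N := normalizer (H : Set G) with hN
    intro hc
    have hNtop : N ≠ ⊤ := fun h => by
      have : H.Normal := normalizer_eq_top_iff.1 h
      exact hHne (le_bot_iff.1 (hc ▸ Lib.Hall.le_pCore hHp))
    obtain ⟨T, hT⟩ := (hHp.comap_subtype (K := N)).exists_le_sylow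
    set T' := (T : Subgroup N).map N.subtype with hT'
    have hT'p : IsPGroup p T' := T.2.map _
    have hHT : H ≤ T' := fun x hx => ⟨⟨x, le_normalizer hx⟩, hT hx, rfl⟩
    obtain ⟨R, hR⟩ := hT'p.exists_le_sylow
    by_cases hRT : (R : Subgroup G) = T'
    · -- `N` contains a Sylow subgroup
      apply hHN
      obtain ⟨g, hg⟩ := MulAction.exists_smul_eq G R P
      have hmap : ((R : Subgroup G).map (MulAut.conj g).toMonoidHom) = P := by
        rw [← hg]; rfl
      refine ih (Nat.card N) (hn ▸ Lib.Coprime.card_lt_of_ne_top hNtop) N (hsec.subgroup N) T rfl ?_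
      refine hyp_of_injective hW N.subtype N.subtype_injective T.2 ?_
      rw [← hT', ← hRT]
      refine hyp_of_injective hW (MulAut.conj g).toMonoidHom (MulAut.conj g).injective R.2 ?_
      rw [hmap]
      exact hyp
    · have hlt : T' < (R : Subgroup G) := lt_of_le_of_ne hR (Ne.symm hRT)
      have hgrow := Lib.Fusion.lt_normalizer_inf R.2 hlt
      have hT'ne : T' ≠ ⊥ := fun h => hHne (le_bot_iff.1 (h ▸ hHT))
      -- subgroups normalised by `N(T')` have nice normalisers
      have hgood : ∀ A : Subgroup G, IsPGroup p A → A ≠ ⊥ →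
          normalizer (T' : Set G) ≤ normalizer (A : Set G) →
          HasNormalPComplement p (normalizer (A : Set G)) := by
        intro A hA hAne hle
        by_contra hbad
        have h1 := hmax A ⟨hA, hAne, hbad⟩
        set S := (R : Subgroup G) ⊓ normalizer (T' : Set G) with hS
        obtain ⟨a, ha⟩ := IsPGroup.iff_card.1 (R.2.to_le (inf_le_left : S ≤ R))
        have h2 : Nat.card T' = p ^ (Nat.card N).factorization p := by
          rw [hT', card_map_of_injective N.subtype_injective]
          exact T.card_eq_multiplicity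
        have h3 : Nat.card T' < Nat.card S :=
          lt_of_le_of_ne (card_le_of_le hgrow.le) fun e => hgrow.ne (eq_of_le_of_card_ge hgrow.le e.ge)
        rw [h2, ha, Nat.pow_lt_pow_iff_right hp.out.one_lt] at h3
        have h4 : p ^ a ∣ Nat.card (normalizer (A : Set G)) :=
          ha ▸ card_dvd_of_le (inf_le_right.trans hle)
        have h5 := (Nat.Prime.pow_dvd_iff_le_factorization hp.out Nat.card_pos.ne').1 h4
        change (Nat.card N).factorization p < a at h3
        change (Nat.card (normalizer (A : Set G))).factorization p ≤ (Nat.card N).factorization p at h1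
        omega
      apply hHN
      refine ih (Nat.card N) (hn ▸ Lib.Coprime.card_lt_of_ne_top hNtop) N (hsec.subgroup N) T rfl ?_
      refine hyp_of_injective hW N.subtype N.subtype_injective T.2 ?_
      rw [← hT']
      exact hgood _ (hT'p.to_le (induced_le T')) (induced_ne_bot hW hT'p hT'ne)
        (LocalFusion.normalizer_le_normalizer_functor (isConjugacyFunctor_induced hW) hT'p)
  set H := pCore p G with hH
  have hHp : IsPGroup p H := Lib.Hall.isPGroup_pCore p
  have hHP : H ≤ P := Lib.Hall.pCore_le_sylow P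
  -- the quotient has a normal p-complement
  let π := QuotientGroup.mk' H
  have hπ : Function.Surjective π := QuotientGroup.mk'_surjective H
  let Pb : Sylow p (G ⧸ H) := P.mapSurjective hπ
  have hPb : (Pb : Subgroup (G ⧸ H)) = (P : Subgroup G).map π := Sylow.coe_mapSurjective hπ P
  have hq : HasNormalPComplement p (G ⧸ H) := by
    refine ih _ (hn ▸ Lib.Coprime.card_quotient_lt hbot) (G ⧸ H) (hsec.quot H) Pb rfl ?_
    have hne : (Pb : Subgroup (G ⧸ H)) ≠ ⊥ := by
      intro h
      rw [hPb, Subgroup.map_eq_bot_iff, QuotientGroup.ker_mk'] at h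
      have e : (P : Subgroup G) = H := le_antisymm h hHP
      apply hG
      have hN : normalizer (Cfsg.inducedFunctor W₀ (P : Subgroup G) : Set G) = ⊤ := by
        refine top_le_iff.1 (le_trans ?_ (LocalFusion.normalizer_le_normalizer_functor (isConjugacyFunctor_induced hW) P.2))
        rw [e, normalizer_eq_top H]
      have := hyp
      rw [hN] at this
      exact Lib.Transfer.HasNormalPComplement.of_surjective (topEquiv (G := G)).toMonoidHom
        (topEquiv (G := G)).surjective this
    -- preimages of local subgroups are proper subgroups containing the Sylow subgroup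
    have hloc : ∀ A : Subgroup (G ⧸ H), IsPGroup p A → A ≠ ⊥ →
        (Pb : Subgroup (G ⧸ H)) ≤ normalizer (A : Set (G ⧸ H)) →
        HasNormalPComplement p (normalizer (A : Set (G ⧸ H))) := by
      intro A hA hAne hle
      have htop : normalizer (A : Set (G ⧸ H)) ≠ ⊤ := by
        intro h
        have : A.Normal := normalizer_eq_top_iff.1 h
        have h1 : A.comap π ≤ H := Lib.Hall.le_pCore (hA.comap_of_ker_isPGroup π
          (by rw [QuotientGroup.ker_mk']; exact hHp))
        apply hAne
        rw [eq_bot_iff, ← map_comap_eq_self_of_surjective hπ A]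
        rintro _ ⟨x, hx, rfl⟩
        exact mem_bot.2 ((QuotientGroup.eq_one_iff x).2 (h1 hx))
      have h1 : HasNormalPComplement p ((normalizer (A : Set (G ⧸ H))).comap π) := by
        refine step1 _ (map_le_iff_le_comap.1 (hPb ▸ hle)) fun h => htop ?_
        rw [← map_comap_eq_self_of_surjective hπ (normalizer (A : Set (G ⧸ H))), h, map_top_of_surjective π hπ]
      exact Lib.Transfer.HasNormalPComplement.of_surjective _
        (π.subgroupComap_surjective_of_surjective _ hπ) h1
    exact hloc _ (Pb.2.to_le (induced_le _)) (induced_ne_bot hW Pb.2 hne)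
      (le_normalizer.trans (LocalFusion.normalizer_le_normalizer_functor (isConjugacyFunctor_induced hW) Pb.2))
  set K := (pResidual p (G ⧸ H)).comap π with hK
  have : K.Normal := (inferInstance : (pResidual p (G ⧸ H)).Normal).comap π
  have hHK : H ≤ K := fun x hx => by
    rw [hK, mem_comap, show π x = 1 from (QuotientGroup.eq_one_iff x).2 hx]
    exact one_mem _
  have hKπ : K.map π = pResidual p (G ⧸ H) := map_comap_eq_self_of_surjective hπ _
  have hKp : ¬ p ∣ Nat.card (K.map π) := hKπ ▸ Lib.Transfer.hasNormalPComplement_iff.1 hq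
  have hKP : K ⊔ (P : Subgroup G) = ⊤ := by
    apply eq_top_iff.2
    intro x _
    have h1 : π x ∈ pResidual p (G ⧸ H) ⊔ Pb := (Lib.Transfer.pResidual_sup_sylow Pb).symm ▸ mem_top _
    rw [hPb, ← hKπ, ← Subgroup.map_sup] at h1
    obtain ⟨y, hy, e⟩ := h1
    have h2 : y⁻¹ * x ∈ H := QuotientGroup.eq.1 e
    rw [show x = y * (y⁻¹ * x) by group]
    exact mul_mem hy ((le_sup_left : K ≤ K ⊔ (P : Subgroup G)) (hHK h2))
  -- centraliser of `H`
  have hCn : (centralizer (H : Set G)).Normal := normal_centralizer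
  have hCle : centralizer (H : Set G) ≤ H := by
    have hCK : centralizer (H : Set G) ⊓ K ≤ H := by
      set C := centralizer (H : Set G) ⊓ K with hC
      have hC' : C.Normal := inferInstance
      have hCH : C ⊓ H ≤ H := inf_le_right
      obtain ⟨S, hS⟩ : ∃ S : Sylow p C, (S : Subgroup C) = H.subgroupOf C := by
        obtain ⟨S, hS⟩ := Lib.Transfer.exists_sylow_subgroupOf (H := C) (hHp.to_le hCH) inf_le_left (by
          intro hd
          apply hKp
          refine hd.trans ?_
          have h1 := Lib.Coprime.card_map_mk' H C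
          have h2 : (C ⊓ H).relIndex C = Nat.card (C.map π) := by
            have h3 : Nat.card (C ⊓ H : Subgroup G) * (C ⊓ H).relIndex C = Nat.card C := by
              rw [relIndex, ← Lib.Coprime.card_subgroupOf (inf_le_left : C ⊓ H ≤ C)]
              exact card_mul_index _
            rw [← h1, mul_comm] at h3
            exact Nat.eq_of_mul_eq_mul_right Nat.card_pos h3
          rw [h2]
          exact card_dvd_of_le (map_mono inf_le_right))
        exact ⟨S, hS.trans (inf_subgroupOf_left _ _)⟩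
      have hCnpc : HasNormalPComplement p C := by
        refine Lib.Transfer.hasNormalPComplement_of_normalizer_le_centralizer S fun c _ => ?_
        rw [mem_centralizer_iff]
        intro s hs
        replace hs : s ∈ (S : Subgroup C) := hs
        rw [hS, mem_subgroupOf] at hs
        exact Subtype.ext (mem_centralizer_iff.1 c.2.1 _ hs)
      have hres : (pResidual p C).map C.subtype = ⊥ := by
        have : (pResidual p C).Characteristic := Lib.Transfer.pResidual_characteristic
        refine hcore _ inferInstance ?_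
        rw [card_map_of_injective C.subtype_injective]
        exact (hp.out.coprime_iff_not_dvd.2 (Lib.Transfer.hasNormalPComplement_iff.1 hCnpc)).symm
      refine Lib.Hall.le_pCore ?_
      rw [Subgroup.map_eq_bot_iff_of_injective _ C.subtype_injective] at hres
      refine (Lib.Transfer.isPGroup_quotient_pResidual (G := C) (p := p)).of_equiv ?_
      exact (QuotientGroup.quotientMulEquivOfEq hres).trans QuotientGroup.quotientBot
    refine Lib.Hall.le_pCore ?_
    intro c
    obtain ⟨m, hm⟩ := Lib.Transfer.exists_pow_coprime (p := p) (c : G)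
    have hcK : (c : G) ^ p ^ m ∈ K := by
      rw [hK, mem_comap]
      exact Lib.Transfer.mem_pResidual (hm.coprime_dvd_left (orderOf_map_dvd π _))
    have h1 := Lib.Transfer.eq_one_of_isPGroup_of_coprime (g := (⟨_, hCK ⟨pow_mem c.2 _, hcK⟩⟩ : H)) hHp
      (by rwa [orderOf_mk])
    exact ⟨m, Subtype.ext (by simpa [Subtype.ext_iff] using h1)⟩
  -- `P` is a maximal subgroup
  have hmaxP : ∀ L : Subgroup G, (P : Subgroup G) ≤ L → L ≠ ⊤ → L = P := by
    intro L hL hne
    have hres := Lib.Transfer.hasNormalPComplement_iff.1 (step1 L hL hne)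
    have hdis : pResidual p L ⊓ H.subgroupOf L = ⊥ :=
      FPF.normal_pgroup_inf_eq_bot hHp.comap_subtype hres
    have hbotL : pResidual p L = ⊥ := by
      rw [eq_bot_iff]
      intro x hx
      have hxC : (x : G) ∈ centralizer (H : Set G) := mem_centralizer_iff.2 fun h hh =>
        (congrArg Subtype.val (commute_of_normal_of_disjoint (pResidual p L) (H.subgroupOf L) inferInstance
          inferInstance (disjoint_iff.2 hdis) x ⟨h, hL (hHP hh)⟩ hx hh).eq).symm
      rw [← hdis]
      exact ⟨hx, hCle hxC⟩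
    have hLp : IsPGroup p L :=
      (Lib.Transfer.isPGroup_quotient_pResidual (G := L) (p := p)).of_equiv
        ((QuotientGroup.quotientMulEquivOfEq hbotL).trans QuotientGroup.quotientBot)
    exact P.3 hLp hL
  have hmaxPb : ∀ L : Subgroup (G ⧸ H), (Pb : Subgroup (G ⧸ H)) ≤ L → L ≠ ⊤ → L = Pb := by
    intro L hL hne
    rw [hPb] at hL ⊢
    rw [← map_comap_eq_self_of_surjective hπ L, hmaxP _ (map_le_iff_le_comap.1 hL) fun h => hne (by
      rw [← map_comap_eq_self_of_surjective hπ L, h, map_top_of_surjective π hπ])]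
  -- the complement is abelian
  have hKne : pResidual p (G ⧸ H) ≠ ⊥ := by
    intro h
    apply hG
    have hGp : IsPGroup p G := by
      intro g
      obtain ⟨a, ha⟩ := Lib.Transfer.isPGroup_quotient_pResidual (G := G ⧸ H) (p := p) (π g : (G ⧸ H) ⧸ pResidual p (G ⧸ H))
      rw [← QuotientGroup.mk_pow, QuotientGroup.eq_one_iff, h, mem_bot, ← map_pow] at ha
      obtain ⟨b, hb⟩ := hHp ⟨g ^ p ^ a, (QuotientGroup.eq_one_iff _).1 ha⟩
      exact ⟨a + b, by rw [pow_add, pow_mul]; exact congrArg Subtype.val hb⟩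
    rw [Lib.Transfer.hasNormalPComplement_iff, Lib.Transfer.pResidual_eq_bot hGp, card_bot]
    exact hp.out.not_dvd_one
  have hab : ∀ x ∈ pResidual p (G ⧸ H), ∀ y ∈ pResidual p (G ⧸ H), x * y = y * x := by
    set M := pResidual p (G ⧸ H) with hM
    have hMp : ¬ p ∣ Nat.card M := Lib.Transfer.hasNormalPComplement_iff.1 hq
    have hMcop : (Nat.card Pb).Coprime (Nat.card M) := by
      obtain ⟨k, hk⟩ := IsPGroup.iff_card.1 Pb.2
      exact hk ▸ (hp.out.coprime_iff_not_dvd.2 hMp).pow_left k
    obtain ⟨q, hq', hqd⟩ := Nat.exists_prime_and_dvd (fun h => hKne (card_eq_one.1 h) : Nat.card M ≠ 1)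
    have := Fact.mk hq'
    have hPM : (Pb : Subgroup (G ⧸ H)) ≤ normalizer (M : Set (G ⧸ H)) := le_top.trans (normalizer_eq_top M).ge
    obtain ⟨Q, hQ⟩ := Lib.Coprime.exists_invariant_sylow hPM hMcop
      (Or.inl (by have := Pb.2.isNilpotent; infer_instance)) q
    set Q' := (Q : Subgroup M).map M.subtype with hQ'
    have hQ'p : IsPGroup q Q' := Q.2.map _
    have hQne : Q' ≠ ⊥ := by
      rw [hQ', Ne, Subgroup.map_eq_bot_iff_of_injective _ M.subtype_injective]
      exact Q.ne_bot_of_dvd_card hqd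
    set Z := Q' ⊓ centralizer (Q' : Set (G ⧸ H)) with hZ
    have hZn : (Pb : Subgroup (G ⧸ H)) ≤ normalizer (Z : Set (G ⧸ H)) :=
      hQ.trans (normalizer_le_normalizer_center Q')
    have hZne : Z ≠ ⊥ := by
      intro hz
      have : Nontrivial Q' := (nontrivial_iff_ne_bot _).2 hQne
      obtain ⟨z, hz1⟩ := (nontrivial_iff_exists_ne_one (center Q')).1 hQ'p.center_nontrivial
      refine hz1.2 (Subtype.ext (mem_bot.1 ?_))
      rw [← hz]
      exact ⟨z.2, mem_centralizer_iff.2 fun y hy => congrArg Subtype.val (mem_center_iff.1 hz1.1 ⟨y, hy⟩)⟩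
    have hZM : Z ≤ M := inf_le_left.trans (map_subtype_le _)
    have htop : (Pb : Subgroup (G ⧸ H)) ⊔ Z = ⊤ := by
      by_contra hne
      have h1 := hmaxPb _ le_sup_left hne
      apply hZne
      rw [eq_bot_iff, ← Lib.Coprime.inf_eq_bot_of_coprime hMcop]
      exact le_inf ((le_sup_right : Z ≤ _).trans h1.le) hZM
    have hMZ : M = Z := by
      symm
      refine eq_of_le_of_card_ge hZM (le_of_eq ?_)
      have h1 := Lib.Coprime.card_sup_of_coprime hZn (hMcop.coprime_dvd_right (card_dvd_of_le hZM))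
      have h2 := Lib.Coprime.card_sup_of_coprime hPM hMcop
      rw [htop] at h1
      have h3 : (Pb : Subgroup (G ⧸ H)) ⊔ M = ⊤ := by
        rw [sup_comm]; exact Lib.Transfer.pResidual_sup_sylow Pb
      rw [h3, h1] at h2
      exact (mul_left_cancel₀ Nat.card_pos.ne' h2).symm
    intro x hx y hy
    rw [hMZ] at hx hy
    exact mem_centralizer_iff.1 hy.2 x hx.1
  have h2 : AbTwo G := by
    intro T hT x hx y hy
    have hM : ∀ z ∈ T, π z ∈ pResidual p (G ⧸ H) := by
      intro z hz
      obtain ⟨k, hk⟩ := IsPGroup.iff_orderOf.1 hT ⟨z, hz⟩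
      rw [orderOf_mk] at hk
      refine Lib.Transfer.mem_pResidual (Nat.Coprime.coprime_dvd_left (orderOf_map_dvd π z) ?_)
      rw [hk]
      exact ((Nat.coprime_primes Nat.prime_two hp.out).2 (Ne.symm hp2)).pow_left k
    have hc : ⁅x, y⁆ ∈ H := by
      refine (QuotientGroup.eq_one_iff _).1 ?_
      show π ⁅x, y⁆ = 1
      rw [map_commutatorElement, commutatorElement_eq_one_iff_commute]
      exact hab _ (hM x hx) _ (hM y hy)
    have hT' : ⁅x, y⁆ ∈ T := by
      rw [commutatorElement_def]
      exact mul_mem (mul_mem (mul_mem hx hy) (inv_mem hx)) (inv_mem hy)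
    have hd : T ⊓ H = ⊥ := by
      have : Fact (Nat.Prime 2) := ⟨Nat.prime_two⟩
      exact disjoint_iff.1 (IsPGroup.disjoint_of_ne 2 p (Ne.symm hp2) T H hT hHp)
    have h3 : ⁅x, y⁆ ∈ T ⊓ H := ⟨hT', hc⟩
    rw [hd, mem_bot, commutatorElement_eq_one_iff_commute] at h3
    exact h3.eq
  exact hG (npc_of_csf (hctl G hsec h2 P) hyp)

/-- Control of strong fusion is preserved by isomorphisms. -/
lemma csf_of_equiv {X Y : Type u} [Group X] [Finite X] [Group Y] (e : X ≃* Y) {U : Subgroup X}
    (h : Cfsg.ControlsStrongFusion p U) : Cfsg.ControlsStrongFusion p (U.map e.toMonoidHom) := by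
  obtain ⟨T, hUT, hA⟩ := h
  have hT : ((T.mapSurjective (f := e.toMonoidHom) e.surjective : Sylow p Y) : Subgroup Y) =
      (T : Subgroup X).map e.toMonoidHom := Sylow.coe_mapSurjective _ T
  refine ⟨T.mapSurjective (f := e.toMonoidHom) e.surjective, by rw [hT]; exact map_mono hUT,
    fun A hA' => ⟨hA', fun g hg => ?_⟩⟩
  rw [hT] at hA' hg
  have hmem : ∀ y, y ∈ (T : Subgroup X).map e.toMonoidHom → e.symm y ∈ (T : Subgroup X) := by
    rintro _ ⟨x, hx, rfl⟩; rw [MulEquiv.coe_toMonoidHom, e.symm_apply_apply]; exact hx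
  obtain ⟨x, hx, he⟩ := (hA (e.symm '' A) (by rintro _ ⟨a, ha, rfl⟩; exact hmem a (hA' ha))).2 (e.symm g) (by
    rintro _ ⟨_, ⟨a, ha, rfl⟩, rfl⟩
    show e.symm g * e.symm a * (e.symm g)⁻¹ ∈ (T : Subgroup X)
    simpa using hmem _ (hg ⟨a, ha, rfl⟩))
  refine ⟨e x, ?_, fun a ha => ?_⟩
  · rw [← map_equiv_normalizer_eq]; exact mem_map_of_mem _ hx
  · simpa using congrArg e (he _ ⟨a, ha, rfl⟩)

end Cfsg.Agent.Lib.KInf
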