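import Mathlib
import Cfsg.Agent.Lib.KInf.NPCSec
import Cfsg.Agent.Lib.KInf.ChiefAux
import Cfsg.Agent.Lib.KInf.Engel
import Cfsg.Agent.Lib.PLength.Basic
import Cfsg.Agent.S0065

/-!
No element outside `O_p` satisfies the `(p-1)`-Engel condition on a chief factor inside `O_p` on which it acts
nontrivially, in a constrained group with normal `p`-complement modulo `O_p` and maximal Sylow `p`-subgroup.
-/

set_option autoImplicit false
open Subgroup
open scoped commutatorElement

namespace Cfsg.Agent.Lib.KInf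

universe u

open Cfsg

/-- If `t` normalises an abelian `p'`-group of units acting faithfully and its norm vanishes, then it
centralises this group. -/
theorem fixed_of_norm_eq_zero {R : Type*} [Ring R] {M : Type*} [CommGroup M] [Finite M] {p : ℕ}
    (hp : p.Prime) (σ : M ≃* M) (ρ : M →* R) (t : R) (hrel : ∀ a, t * ρ a = ρ (σ a) * t)
    (hN : ∑ i ∈ Finset.range p, t ^ i = 0) (hinj : ∀ a, ρ a = 1 → a = 1)
    (hunit : ∀ n : ℕ, ¬ p ∣ n → IsUnit (n : R)) (hM : ¬ p ∣ Nat.card M) (a : M) : σ a = a := by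
  classical
  have := Fintype.ofFinite M
  have hrel' : ∀ (i : ℕ) (a : M), t ^ i * ρ a = ρ ((σ ^ i) a) * t ^ i := by
    intro i
    induction i with
    | zero => intro a; simp
    | succ i ih =>
      intro a
      rw [pow_succ', mul_assoc, ih, ← mul_assoc, hrel, mul_assoc, pow_succ']
      rfl
  have ht : t ^ p = 1 := by
    rw [← sub_eq_zero, ← geom_sum_mul, hN, zero_mul]
  have hσp : ∀ a, (σ ^ p) a = a := by
    intro a
    have h := hrel' p a
    rw [ht, one_mul, mul_one] at h
    refine mul_inv_eq_one.mp (hinj _ ?_)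
    rw [map_mul, ← h, ← map_mul, mul_inv_cancel, map_one]
  -- the fixed point free part
  let δ : M →* M :=
    { toFun := fun a => a / σ a
      map_one' := by simp
      map_mul' := fun a b => by rw [map_mul]; exact mul_div_mul_comm a b (σ a) (σ b) }
  let M1 : Subgroup M := δ.range
  have hfix : ∀ c ∈ M1, σ c = c → c = 1 := by
    rintro c ⟨a, rfl⟩ h
    have hσ : ∀ i : ℕ, (σ ^ i) (δ a) = δ a := by
      intro i
      induction i with
      | zero => rfl
      | succ i ih => rw [pow_succ, MulAut.mul_apply, h, ih]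
    have h1 : ∀ i : ℕ, δ a ^ i = a / (σ ^ i) a := by
      intro i
      induction i with
      | zero => rw [pow_zero, pow_zero]; exact (div_self' a).symm
      | succ i ih =>
        rw [pow_succ, ih]
        nth_rewrite 1 [← hσ i]
        show a / (σ ^ i) a * (σ ^ i) (a / σ a) = a / (σ ^ (i + 1)) a
        rw [map_div, pow_succ, MulAut.mul_apply, div_mul_div_cancel]
    have h2 : δ a ^ p = 1 := by rw [h1, hσp, div_self']
    exact orderOf_eq_one_iff.mp (Nat.eq_one_of_dvd_coprimes
      ((hp.coprime_iff_not_dvd).mpr hM) (orderOf_dvd_of_pow_eq_one h2) (orderOf_dvd_natCard _))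
  let σ1 : M1 →* M1 := (σ.toMonoidHom.comp M1.subtype).codRestrict M1 (fun c => by
    obtain ⟨a, ha⟩ := c.2
    exact ⟨σ a, by show σ a / σ (σ a) = σ c; rw [← ha]; exact (map_div σ a (σ a)).symm⟩)
  -- `(c t)^i = f i c * t^i`
  let f : ℕ → (M1 →* M1) := fun i => Nat.rec (1 : M1 →* M1) (fun _ g => MonoidHom.id M1 * σ1.comp g) i
  have hf : ∀ (i : ℕ) (c : M1), (ρ c * t) ^ i = ρ (f i c) * t ^ i := by
    intro i
    induction i with
    | zero => intro c; simp [f]
    | succ i ih =>
      intro c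
      rw [pow_succ', ih, mul_assoc, ← mul_assoc t, hrel, mul_assoc, ← mul_assoc, ← pow_succ', ← map_mul]
      rfl
  have hfs : ∀ (i : ℕ) (c : M1), (f (i + 1) c : M) = (f i c : M) * (σ ^ i) c := by
    intro i
    induction i with
    | zero => intro c; show (c : M) * σ 1 = 1 * c; rw [map_one, mul_one, one_mul]
    | succ i ih =>
      intro c
      show (c : M) * σ (f (i + 1) c : M) = ((c : M) * σ (f i c : M)) * (σ ^ (i + 1)) c
      rw [ih, map_mul, mul_assoc, pow_succ', MulAut.mul_apply]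
  have hbij : ∀ i : ℕ, 0 < i → i < p → Function.Bijective (f i) := by
    intro i hi0 hip
    refine Finite.injective_iff_bijective.mp ((injective_iff_map_eq_one _).mpr fun c hc => ?_)
    have hσi : (σ ^ i) (c : M) = c := by
      have h1 := hfs i c
      rw [hc] at h1
      have h2 : (f (i + 1) c : M) = c * σ (1 : M) := by
        show (c : M) * σ (f i c : M) = _
        rw [hc]; rfl
      rw [h2, map_one, mul_one] at h1
      simpa using h1.symm
    have hσc : σ (c : M) = c := by
      have hcop : Nat.gcd i p = 1 :=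
        ((hp.coprime_iff_not_dvd).mpr fun hd => absurd (Nat.le_of_dvd hi0 hd) hip.not_ge).symm
      have h1 : σ ^ (1 : ℕ) ∈ MulAction.stabilizer (MulAut M) (c : M) := by
        rw [← hcop, ← Nat.gcd_comm p i]
        have hg := Nat.gcd_eq_gcd_ab p i
        rw [← zpow_natCast, hg, zpow_add, zpow_mul, zpow_mul]
        refine mul_mem (zpow_mem ?_ _) (zpow_mem ?_ _) <;> rw [zpow_natCast]
        · exact hσp c
        · exact hσi
      simpa [MulAction.mem_stabilizer_iff, MulAut.smul_def] using h1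
    have := hfix c c.2 hσc
    exact Subtype.ext this
  -- conjugates of `t`
  have hconj : ∀ c : M1, ∑ i ∈ Finset.range p, (ρ c * t) ^ i = 0 := by
    rintro ⟨c, a, rfl⟩
    have h1 : ρ (δ a) * t = ρ a * t * ρ a⁻¹ := by
      rw [mul_assoc, hrel, ← mul_assoc, ← map_mul]
      show ρ (a / σ a) * t = ρ (a * σ a⁻¹) * t
      rw [map_inv, div_eq_mul_inv]
    have h2 : ∀ i : ℕ, (ρ (δ a) * t) ^ i = ρ a * t ^ i * ρ a⁻¹ := by
      intro i
      induction i with
      | zero => rw [pow_zero, pow_zero, mul_one, ← map_mul, mul_inv_cancel, map_one]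
      | succ i ih =>
        rw [pow_succ, ih, h1, show ρ a * t ^ i * ρ a⁻¹ * (ρ a * t * ρ a⁻¹) =
          ρ a * t ^ i * (ρ a⁻¹ * ρ a) * t * ρ a⁻¹ by simp only [mul_assoc],
          ← map_mul ρ a⁻¹ a, inv_mul_cancel, map_one, mul_one, pow_succ, mul_assoc (ρ a) (t ^ i) t]
    simp only [h2, ← Finset.sum_mul, ← Finset.mul_sum, hN, mul_zero, zero_mul]
  set e : R := ∑ c : M1, ρ c with he
  obtain ⟨q, hq⟩ : ∃ q, p = q + 1 := ⟨p - 1, by have := hp.one_le; omega⟩
  have hsum : (Fintype.card M1 : R) + e * ∑ i ∈ Finset.range q, t ^ (i + 1) = 0 := by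
    have h : ∑ c : M1, ∑ i ∈ Finset.range p, (ρ c * t) ^ i = 0 := Finset.sum_eq_zero fun c _ => hconj c
    rw [Finset.sum_comm, hq, Finset.sum_range_succ'] at h
    rw [add_comm, Finset.mul_sum]
    refine Eq.trans ?_ h
    congr 1
    · refine Finset.sum_congr rfl fun i hi => ?_
      rw [Finset.mem_range] at hi
      simp only [hf, ← Finset.sum_mul]
      congr 1
      exact (Fintype.sum_bijective (f (i + 1)) (hbij (i + 1) i.succ_pos (by omega)) _ _ fun c => rfl).symm
    · simp
  have hS : ∑ i ∈ Finset.range q, t ^ (i + 1) = -1 := by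
    rw [eq_neg_iff_add_eq_zero, ← hN, hq, Finset.sum_range_succ', pow_zero]
  rw [hS, mul_neg, mul_one, ← sub_eq_add_neg, sub_eq_zero] at hsum
  have hM1 : ∀ d : M1, (d : M) = 1 := by
    intro d
    refine hinj _ ?_
    have h1 : e * ρ d = e := by
      rw [he, Finset.sum_mul]
      refine Fintype.sum_equiv (Equiv.mulRight d) _ _ fun c => ?_
      rw [← map_mul]; rfl
    rw [← hsum] at h1
    have hu : IsUnit ((Fintype.card M1 : ℕ) : R) := hunit _ fun hd =>
      hM (hd.trans (by rw [← Nat.card_eq_fintype_card]; exact M1.card_subgroup_dvd_card))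
    exact hu.mul_left_cancel (h1.trans (mul_one _).symm)
  have := hM1 ⟨δ a, a, rfl⟩
  exact (div_eq_one.mp (this : a / σ a = 1)).symm

open scoped IsMulCommutative in
/-- The Engel condition fails on chief factors in a constrained group with maximal Sylow subgroup. -/
theorem engel_false_of_isCoatom {p : ℕ} [hp : Fact p.Prime] {X : Type u} [Group X] [Finite X]
    (hq : HasNormalPComplement p (X ⧸ pCore p X)) (T : Sylow p X)
    (hT : IsCoatom (T : Subgroup X)) {g : X} (hgT : g ∈ (T : Subgroup X)) (hg : g ∉ pCore p X)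
    {U V : Subgroup X} (hUV : IsChiefFactor U V) (hUH : U ≤ pCore p X)
    (hit : iterCommutator U (zpowers g) (p - 1) ≤ V) (hng : ¬ ⁅U, zpowers g⁆ ≤ V) : False := by
  classical
  set H := pCore p X with hH
  have hHp : IsPGroup p H := Lib.Hall.isPGroup_pCore p
  have : H.Normal := Lib.Hall.pCore_normal p
  let π := QuotientGroup.mk' H
  have hπ : Function.Surjective π := QuotientGroup.mk'_surjective H
  let Pb : Sylow p (X ⧸ H) := T.mapSurjective hπ
  have hPb : (Pb : Subgroup (X ⧸ H)) = (T : Subgroup X).map π := Sylow.coe_mapSurjective hπ T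
  have hHT : H ≤ T := Lib.Hall.pCore_le_sylow T
  have hmaxPb : ∀ L : Subgroup (X ⧸ H), (Pb : Subgroup (X ⧸ H)) ≤ L → L ≠ ⊤ → L = Pb := by
    intro L hL hne
    rw [hPb] at hL ⊢
    rcases hT.le_iff.1 (map_le_iff_le_comap.1 hL) with h | h
    · exact absurd (by rw [← map_comap_eq_self_of_surjective hπ L, h, map_top_of_surjective π hπ]) hne
    · rw [← h, map_comap_eq_self_of_surjective hπ]
  set M := pResidual p (X ⧸ H) with hM
  have hMp : ¬ p ∣ Nat.card M := Lib.Transfer.hasNormalPComplement_iff.1 hq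
  have hMn : M.Normal := inferInstance
  have hMcop : (Nat.card Pb).Coprime (Nat.card M) := by
    obtain ⟨k, hk⟩ := IsPGroup.iff_card.1 Pb.2
    exact hk ▸ (hp.out.coprime_iff_not_dvd.2 hMp).pow_left k
  have hPM : (Pb : Subgroup (X ⧸ H)) ⊔ M = ⊤ := by
    rw [sup_comm]; exact Lib.Transfer.pResidual_sup_sylow Pb
  have hPbtop : (Pb : Subgroup (X ⧸ H)) ≠ ⊤ := by
    intro h
    apply hT.1
    rw [hPb] at h
    have := congrArg (Subgroup.comap π) h
    rw [comap_map_eq, comap_top, QuotientGroup.ker_mk', sup_eq_left.2 hHT] at this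
    exact this
  -- minimality of `M`
  have hirr : ∀ Z : Subgroup (X ⧸ H), Z ≤ M → (Pb : Subgroup (X ⧸ H)) ≤ normalizer (Z : Set (X ⧸ H)) →
      Z = ⊥ ∨ Z = M := by
    intro Z hZM hZn
    by_cases htop : (Pb : Subgroup (X ⧸ H)) ⊔ Z = ⊤
    · refine Or.inr (eq_of_le_of_card_ge hZM (le_of_eq ?_))
      have h1 := Lib.Coprime.card_sup_of_coprime hZn (hMcop.coprime_dvd_right (card_dvd_of_le hZM))
      have h2 := Lib.Coprime.card_sup_of_coprime (A := (Pb : Subgroup (X ⧸ H))) (N := M)
        (le_top.trans (normalizer_eq_top M).ge) hMcop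
      rw [htop] at h1
      rw [hPM, h1] at h2
      exact (mul_left_cancel₀ Nat.card_pos.ne' h2).symm
    · left
      have h1 := hmaxPb _ le_sup_left htop
      rw [eq_bot_iff, ← Lib.Coprime.inf_eq_bot_of_coprime hMcop]
      exact le_inf ((le_sup_right : Z ≤ _).trans h1.le) hZM
  -- `M` is abelian
  have hab : IsMulCommutative M := by
    obtain ⟨q, hq', hqd⟩ := Nat.exists_prime_and_dvd (fun h => hPbtop (by
      rw [← hPM, card_eq_one.1 h, sup_bot_eq]) : Nat.card M ≠ 1)
    have := Fact.mk hq'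
    obtain ⟨Q, hQ⟩ := Lib.Coprime.exists_invariant_sylow (A := (Pb : Subgroup (X ⧸ H))) (K := M)
      (le_top.trans (normalizer_eq_top M).ge) hMcop (Or.inl (by have := Pb.2.isNilpotent; infer_instance)) q
    set Q' := (Q : Subgroup M).map M.subtype with hQ'
    have hQ'p : IsPGroup q Q' := Q.2.map _
    have hQne : Q' ≠ ⊥ := by
      rw [hQ', Ne, Subgroup.map_eq_bot_iff_of_injective _ M.subtype_injective]
      exact Q.ne_bot_of_dvd_card hqd
    set Z := Q' ⊓ centralizer (Q' : Set (X ⧸ H)) with hZ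
    have hZn : (Pb : Subgroup (X ⧸ H)) ≤ normalizer (Z : Set (X ⧸ H)) :=
      hQ.trans (Lib.FPF.normalizer_le_normalizer_center Q')
    have hZM : Z ≤ M := inf_le_left.trans (map_subtype_le _)
    rcases hirr Z hZM hZn with h | h
    · exfalso
      have : Nontrivial Q' := (nontrivial_iff_ne_bot _).2 hQne
      obtain ⟨z, hz1⟩ := (nontrivial_iff_exists_ne_one (center Q')).1 hQ'p.center_nontrivial
      refine hz1.2 (Subtype.ext (mem_bot.1 ?_))
      rw [← h]
      exact ⟨z.2, mem_centralizer_iff.2 fun y hy => congrArg Subtype.val (mem_center_iff.1 hz1.1 ⟨y, hy⟩)⟩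
    · refine ⟨⟨fun a b => Subtype.ext ?_⟩⟩
      have ha : (a : X ⧸ H) ∈ Z := h.symm ▸ a.2
      have hb : (b : X ⧸ H) ∈ Z := h.symm ▸ b.2
      exact mem_centralizer_iff.1 hb.2 a ha.1
  -- `g` does not centralise `M`
  set gb : X ⧸ H := π g with hgb
  have hgbP : gb ∈ (Pb : Subgroup (X ⧸ H)) := hPb ▸ mem_map_of_mem π hgT
  have hgM : ∃ a : M, MulAut.conjNormal gb a ≠ a := by
    by_contra h
    simp only [not_exists, not_not] at h
    set D := (Pb : Subgroup (X ⧸ H)) ⊓ centralizer (M : Set (X ⧸ H)) with hD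
    have hgD : gb ∈ D := ⟨hgbP, mem_centralizer_iff.2 fun a ha => by
      have h1 : gb * a * gb⁻¹ = a := congrArg Subtype.val (h ⟨a, ha⟩)
      exact (mul_inv_eq_iff_eq_mul.1 h1).symm⟩
    have hDn : D.Normal := by
      rw [← normalizer_eq_top_iff, eq_top_iff, ← hPM]
      refine sup_le ?_ (fun a ha => ?_)
      · intro x hx
        rw [mem_normalizer_iff]
        intro y
        have hc : y ∈ centralizer (M : Set (X ⧸ H)) ↔ x * y * x⁻¹ ∈ centralizer (M : Set (X ⧸ H)) :=
          ⟨fun h => (normal_centralizer (H := M)).conj_mem y h x, fun h => by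
            simpa [mul_assoc] using (normal_centralizer (H := M)).conj_mem' _ h x⟩
        have hp' : y ∈ (Pb : Subgroup (X ⧸ H)) ↔ x * y * x⁻¹ ∈ (Pb : Subgroup (X ⧸ H)) :=
          mem_normalizer_iff.1 (le_normalizer hx) y
        exact and_congr hp' hc
      · rw [mem_normalizer_iff]
        refine fun y => ⟨fun hy => ?_, fun hy => ?_⟩
        · rwa [mem_centralizer_iff.1 hy.2 a ha, mul_inv_cancel_right]
        · have e : a * y * a⁻¹ = y := by
            have h1 := mem_centralizer_iff.1 hy.2 a ha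
            have h4 : a * y * a⁻¹ * a = a * y := by group
            have h3 : a * y = a * (a * y * a⁻¹) := (h1.trans h4).symm
            exact (mul_left_cancel h3).symm
          rwa [e] at hy
    have := Lib.Hall.le_pCore (N := D) (Pb.2.to_le inf_le_left)
    rw [Lib.PLength.pCore_quotient_pCore_eq_bot] at this
    exact hg ((QuotientGroup.eq_one_iff g).1 (mem_bot.1 (this hgD)))
  -- the module
  obtain ⟨hlt, hUn, hVn, hmin⟩ := hUV
  have hUV' : IsChiefFactor U V := ⟨hlt, hUn, hVn, hmin⟩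
  let ν := QuotientGroup.mk' V
  have hν : Function.Surjective ν := QuotientGroup.mk'_surjective V
  set W := U.map ν with hW
  have hWn : W.Normal := hUn.map ν hν
  have hWc : IsMulCommutative W := ⟨⟨by
    rintro ⟨_, a, ha, rfl⟩ ⟨_, b, hb, rfl⟩
    exact Subtype.ext ((mk_comm_eq_one_iff V).2 (chief_abelian hHp hUV' hUH
      (commutator_mem_commutator ha hb))).eq⟩⟩
  let ρ0 : X →* AddMonoid.End (Additive W) :=
    { toFun := fun x => MonoidHom.toAdditive (MulAut.conjNormal (ν x)).toMonoidHom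
      map_one' := by ext w; simp [MonoidHom.toAdditive]; rfl
      map_mul' := fun x y => by
        ext w
        simp only [map_mul]
        rfl }
  have hρ0 : ∀ x y, ∀ hy : y ∈ U, ρ0 x (Additive.ofMul ⟨ν y, mem_map_of_mem ν hy⟩) =
      Additive.ofMul (⟨ν (x * y * x⁻¹), mem_map_of_mem ν (hUn.conj_mem y hy x)⟩ : W) := fun x y hy =>
    congrArg Additive.ofMul (Subtype.ext (by
      show ((MulAut.conjNormal (ν x)) ⟨ν y, _⟩ : X ⧸ V) = _
      rw [MulAut.conjNormal_apply]; simp [ν]))
  have hend : ∀ r s : AddMonoid.End (Additive W),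
      (∀ y, ∀ hy : y ∈ U, r (Additive.ofMul ⟨ν y, mem_map_of_mem ν hy⟩) =
        s (Additive.ofMul ⟨ν y, mem_map_of_mem ν hy⟩)) → r = s := by
    intro r s h
    refine DFunLike.ext _ _ fun w => ?_
    obtain ⟨y, hy, hyw⟩ := w.toMul.2
    have e : w = Additive.ofMul ⟨ν y, mem_map_of_mem ν hy⟩ :=
      congrArg Additive.ofMul (Subtype.ext hyw.symm : w.toMul = ⟨ν y, mem_map_of_mem ν hy⟩)
    rw [e]; exact h y hy
  have hker : H ≤ ρ0.ker := fun h hh => MonoidHom.mem_ker.2 <| hend _ _ fun y hy => by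
    rw [hρ0 h y hy]
    refine congrArg Additive.ofMul (Subtype.ext ?_)
    show ν (h * y * h⁻¹) = ν y
    have h1 := ((mk_comm_eq_one_iff V).2 (chief_commutator_le hHp hUV' hUH
      (commutator_mem_commutator hy hh))).eq
    rw [map_mul, map_mul, map_inv, ← h1, mul_inv_cancel_right]
  let ρ : (X ⧸ H) →* AddMonoid.End (Additive W) := QuotientGroup.lift H ρ0 hker
  have hρπ : ∀ x, ρ (π x) = ρ0 x := fun x => rfl
  have hpW : (p : AddMonoid.End (Additive W)) = 0 := by
    refine hend _ _ fun y hy => ?_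
    rw [AddMonoid.End.natCast_apply]
    refine congrArg Additive.ofMul (Subtype.ext ?_ : (⟨ν y, mem_map_of_mem ν hy⟩ : W) ^ p = 1)
    show (ν y) ^ p = 1
    rw [← map_pow]
    exact (QuotientGroup.eq_one_iff _).2 (chief_pow_mem hHp hUV' hUH hy)
  have hnon : Nontrivial (AddMonoid.End (Additive W)) := by
    refine ⟨⟨1, 0, fun h => hng (commutator_zpowers_le fun a ha => ?_)⟩⟩
    have h1 : (Additive.ofMul ⟨ν a, mem_map_of_mem ν ha⟩ : Additive W) = 0 :=
      DFunLike.congr_fun h (Additive.ofMul ⟨ν a, mem_map_of_mem ν ha⟩)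
    have h2 : ν a = 1 := congrArg Subtype.val (congrArg Additive.toMul h1)
    refine (QuotientGroup.eq_one_iff _).1 ?_
    show ν ⁅a, g⁆ = 1
    rw [map_commutatorElement, h2, commutatorElement_one_left]
  have : CharP (AddMonoid.End (Additive W)) p := by
    refine ringChar.of_eq ((hp.out.eq_one_or_self_of_dvd _ ?_).resolve_left CharP.ringChar_ne_one)
    exact ringChar.dvd hpW
  -- the norm vanishes
  set t := ρ gb with ht
  have hN : ∑ i ∈ Finset.range p, t ^ i = 0 := by
    have hpoly := congrArg (Polynomial.eval₂ (ZMod.castHom dvd_rfl (AddMonoid.End (Additive W))) t)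
      (geom_sum_eq_pow (p := p))
    rw [Polynomial.eval₂_finset_sum] at hpoly
    let φ := Polynomial.eval₂RingHom' (ZMod.castHom dvd_rfl (AddMonoid.End (Additive W))) t (fun a => by
      rw [ZMod.castHom_apply, ← ZMod.natCast_zmod_val a, ZMod.cast_natCast' (R := AddMonoid.End (Additive W))]
      exact Nat.cast_commute _ _)
    have hφ : ∀ q, φ q = Polynomial.eval₂ (ZMod.castHom dvd_rfl (AddMonoid.End (Additive W))) t q := fun q => rfl
    have h1 := congrArg φ (geom_sum_eq_pow (p := p))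
    rw [map_sum] at h1
    simp only [map_pow, map_sub, map_one] at h1
    rw [show φ Polynomial.X = t from Polynomial.eval₂_X _ _] at h1
    rw [h1]
    refine hend _ _ fun u hu => ?_
    have hseq : ∀ n : ℕ, ∃ e, ∃ he : e ∈ U, e ∈ iterCommutator U (zpowers g) n ∧
        ((t - 1) ^ n) (Additive.ofMul ⟨ν u, mem_map_of_mem ν hu⟩) =
          Additive.ofMul (⟨ν e, mem_map_of_mem ν he⟩ : W) := by
      intro n
      induction n with
      | zero => exact ⟨u, hu, hu, by rw [pow_zero]; rfl⟩
      | succ n ih =>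
        obtain ⟨e, he, hei, hev⟩ := ih
        refine ⟨g * e * g⁻¹ * e⁻¹, mul_mem (hUn.conj_mem e he g) (inv_mem he), ?_, ?_⟩
        · have h2 : g * e * g⁻¹ * e⁻¹ = ⁅e, g⁆⁻¹ := by rw [commutatorElement_def]; group
          rw [h2]
          exact inv_mem (commutator_mem_commutator hei (mem_zpowers g))
        · rw [pow_succ', AddMonoid.End.coe_mul, Function.comp_apply, hev]
          show t (Additive.ofMul _) - Additive.ofMul _ = _
          rw [ht, hgb, hρπ, hρ0 g e he, ← ofMul_div]
          refine congrArg Additive.ofMul (Subtype.ext ?_)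
          show ν (g * e * g⁻¹) / ν e = _
          rw [div_eq_mul_inv, ← map_inv, ← map_mul]
    obtain ⟨e, he, hei, hev⟩ := hseq (p - 1)
    rw [hev]
    refine congrArg Additive.ofMul (Subtype.ext ?_ : (⟨ν e, mem_map_of_mem ν he⟩ : W) = 1)
    exact (QuotientGroup.eq_one_iff e).2 (hit hei)
  -- faithfulness of `M`
  have hinj : ∀ a : M, ρ a = 1 → a = 1 := by
    rcases hirr (M ⊓ ρ.ker) inf_le_left (le_top.trans (normalizer_eq_top _).ge) with h | h
    · exact fun a ha => Subtype.ext (mem_bot.1 (h.le ⟨a.2, MonoidHom.mem_ker.2 ha⟩))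
    exfalso
    -- then every element fixes a nontrivial element of `W`
    have hMk : M ≤ ρ.ker := h.ge.trans inf_le_right
    have hne : W ≠ ⊥ := by
      rw [hW, Ne, Subgroup.map_eq_bot_iff, QuotientGroup.ker_mk']
      exact hlt.not_ge
    set Q := (T : Subgroup X).map ν with hQdef
    have hWQ : W ≤ Q := map_mono (hUH.trans hHT)
    have : Group.IsNilpotent Q := (T.2.map ν).isNilpotent
    have hwne : W.subgroupOf Q ≠ ⊥ := fun hb => hne (by
      rw [eq_bot_iff]; intro w hw
      exact mem_bot.2 (congrArg Subtype.val ((mem_bot (x := (⟨w, hWQ hw⟩ : Q))).1 (hb ▸ mem_subgroupOf.2 hw))))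
    obtain ⟨⟨w, hw⟩, hw1⟩ := ne_bot_iff_exists_ne_one.1
      (S0065.inf_center_ne_bot (N := W.subgroupOf Q) inferInstance hwne)
    obtain ⟨y, hy, hyw⟩ := (hw.1 : (w : X ⧸ V) ∈ W)
    replace hyw : ν y = (w : X ⧸ V) := hyw
    -- fixed elements form a normal subgroup
    set F : Subgroup X := U ⊓ (center (X ⧸ V)).comap ν with hF
    have hyF : y ∈ F := by
      refine ⟨hy, mem_comap.2 (mem_center_iff.2 fun z => ?_)⟩
      obtain ⟨x, rfl⟩ := hν z
      have hcases : π x ∈ (Pb : Subgroup (X ⧸ H)) ⊔ M := hPM.symm ▸ mem_top _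
      obtain ⟨b, hb, a, ha, hba⟩ := mem_sup_of_normal_right.1 hcases
      rw [hPb] at hb
      obtain ⟨s, hs, rfl⟩ := hb
      have h1 : ρ0 x = ρ0 s := by
        rw [← hρπ, ← hba, map_mul, MonoidHom.mem_ker.1 (hMk ha), mul_one, hρπ]
      have h2 := DFunLike.congr_fun h1 (Additive.ofMul ⟨ν y, mem_map_of_mem ν hy⟩)
      rw [hρ0 x y hy, hρ0 s y hy] at h2
      have h3 : ν (x * y * x⁻¹) = ν (s * y * s⁻¹) := congrArg (fun w => ((Additive.toMul w : W) : X ⧸ V)) h2
      have h4 : ν s * (w : X ⧸ V) = w * ν s :=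
        congrArg Subtype.val (mem_center_iff.1 hw.2 ⟨ν s, mem_map_of_mem ν hs⟩)
      rw [map_mul, map_mul, map_inv, map_mul, map_mul, map_inv, hyw, h4, mul_inv_cancel_right] at h3
      rw [hyw]
      exact mul_inv_eq_iff_eq_mul.1 h3
    have hFn : F.Normal := inferInstance
    have hVF : V ≤ F := le_inf hlt.le fun v hv => mem_comap.2 (by
      rw [show ν v = 1 from (QuotientGroup.eq_one_iff v).2 hv]; exact one_mem _)
    rcases hmin F hFn hVF inf_le_left with hFV | hFU
    · refine hw1 (Subtype.ext (Subtype.ext ?_))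
      show (w : X ⧸ V) = 1
      rw [← hyw]
      exact (QuotientGroup.eq_one_iff y).2 (hFV ▸ hyF)
    · refine hng (commutator_zpowers_le fun a ha => (mk_comm_eq_one_iff V).1 ?_)
      have hac := mem_center_iff.1 (mem_comap.1 (hFU ▸ ha : a ∈ F).2) (ν g)
      exact hac.symm
  obtain ⟨a, ha⟩ := hgM
  refine ha (fixed_of_norm_eq_zero hp.out (MulAut.conjNormal gb : MulAut M) (ρ.comp M.subtype) t
    (fun b => ?_) hN hinj (fun n hn => ?_) hMp a)
  · show ρ gb * ρ b = ρ ((MulAut.conjNormal gb b : M) : X ⧸ H) * ρ gb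
    rw [MulAut.conjNormal_apply, ← map_mul, ← map_mul]
    congr 1
    group
  · have h1 : IsUnit ((n : ZMod p)) :=
      (ZMod.isUnit_iff_coprime n p).2 ((hp.out.coprime_iff_not_dvd.2 hn).symm)
    simpa using h1.map (ZMod.castHom dvd_rfl (AddMonoid.End (Additive W)))

end Cfsg.Agent.Lib.KInf
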