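import Mathlib
import Cfsg.Agent.Lib.KInf.NPCSec

/-!
Normal `p`-complement criterion of Thompson type: reduction to constrained sections in which a Sylow subgroup
is maximal.
-/

set_option autoImplicit false
open Subgroup
open scoped commutatorElement

namespace Cfsg.Agent.Lib.KInf

universe u

open Cfsg Cfsg.Agent.Lib.FPF

variable {p : ℕ} [hp : Fact p.Prime] {W₀ : ∀ (Q : Type u) [Group Q], Subgroup Q}

/-- Minimal counterexamples to the normal `p`-complement criterion have a maximal Sylow subgroup. -/
theorem npc_of_maximal_sylow (hW : Cfsg.IsCharPFunctor.{u} p W₀) {G₀ : Type u} [Group G₀] [Finite G₀]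
    (hctl : ∀ (X : Type u) [Group X] [Finite X], IsSec G₀ X →
      centralizer (pCore p X : Set X) ≤ pCore p X → HasNormalPComplement p (X ⧸ pCore p X) →
      ∀ T : Sylow p X, IsCoatom (T : Subgroup X) → (Cfsg.inducedFunctor W₀ (T : Subgroup X)).Normal) (n : ℕ) :
    ∀ (G : Type u) [Group G] [Finite G], IsSec G₀ G → ∀ (P : Sylow p G), Nat.card G = n →
      HasNormalPComplement p (normalizer (Cfsg.inducedFunctor W₀ (P : Subgroup G) : Set G)) →
      HasNormalPComplement p G := by
  induction n using Nat.strongRecOn with | ind n ih => ?_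
  intro G _ _ hsec P hn hyp
  classical
  by_contra hG
  -- proper subgroups containing the Sylow subgroup
  have step1 : ∀ L : Subgroup G, (P : Subgroup G) ≤ L → L ≠ ⊤ → HasNormalPComplement p L := by
    intro L hL hne
    refine ih (Nat.card L) (hn ▸ Lib.Coprime.card_lt_of_ne_top hne) L (hsec.subgroup L) (P.subtype hL) rfl ?_
    refine hyp_of_injective hW L.subtype L.subtype_injective (P.subtype hL).2 ?_
    rw [Sylow.coe_subtype, map_subgroupOf_eq_of_le hL]
    exact hyp
  -- no normal p'-subgroup
  have hcore : ∀ U : Subgroup G, U.Normal → (Nat.card U).Coprime p → U = ⊥ := by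
    intro U hUn hU
    by_contra hne
    apply hG
    refine npc_of_quotient U hU (ih _ (hn ▸ Lib.Coprime.card_quotient_lt hne) (G ⧸ U) (hsec.quot U)
      (P.mapSurjective (QuotientGroup.mk'_surjective U)) rfl ?_)
    rw [Sylow.coe_mapSurjective, induced_map hW (QuotientGroup.mk' U) P.2 (fun x hx y hy e => by
      have hb : (P : Subgroup G) ⊓ U = ⊥ := disjoint_iff.mp (disjoint_of_coprime_natCard (by
        rw [P.card_eq_multiplicity]; exact hU.symm.pow_left _))
      have := hb.le ⟨(P : Subgroup G).mul_mem ((P : Subgroup G).inv_mem hx) hy, QuotientGroup.eq.1 e⟩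
      exact inv_mul_eq_one.1 (mem_bot.1 this))]
    refine npc_subgroup_of_le (normalizer_map_le_map_normalizer U hU (P.2.to_le (induced_le _))) ?_
    exact Lib.Transfer.HasNormalPComplement.of_surjective _ (MonoidHom.subgroupMap_surjective _ _) hyp
  -- the maximal bad local subgroup is the whole group
  let 𝓗 : Set (Subgroup G) :=
    {Q | IsPGroup p Q ∧ Q ≠ ⊥ ∧ ¬ HasNormalPComplement p (normalizer (Q : Set G))}
  have h𝓗 : 𝓗.Nonempty := by
    by_contra hempty
    apply hG
    refine Lib.Transfer.frobenius_criterion fun Q hQ => ?_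
    by_cases hQb : Q = ⊥
    · subst hQb
      intro g _ _
      rw [mem_centralizer_iff]
      intro x hx
      rw [mem_bot.1 hx, one_mul, mul_one]
    · refine Lib.Transfer.autPGroup_of_hasNormalPComplement hQ ?_
      by_contra h
      exact hempty ⟨Q, hQ, hQb, h⟩
  have hbot : pCore p G ≠ ⊥ := by
    obtain ⟨H, hH, hmax⟩ := Set.exists_max_image 𝓗
      (fun Q : Subgroup G => (Nat.card (normalizer (Q : Set G))).factorization p) 𝓗.toFinite h𝓗
    obtain ⟨hHp, hHne, hHN⟩ := hH
    set N := normalizer (H : Set G) with hN
    intro hc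
    have hNtop : N ≠ ⊤ := fun h => by
      have : H.Normal := normalizer_eq_top_iff.1 h
      exact hHne (le_bot_iff.1 (hc ▸ Lib.Hall.le_pCore hHp))
    obtain ⟨T, hT⟩ := (hHp.comap_subtype (K := N)).exists_le_sylow
    set T' := (T : Subgroup N).map N.subtype with hT'
    have hT'p : IsPGroup p T' := T.2.map _
    have hHT : H ≤ T' := fun x hx => ⟨⟨x, le_normalizer hx⟩, hT hx, rfl⟩
    obtain ⟨R, hR⟩ := hT'p.exists_le_sylow
    by_cases hRT : (R : Subgroup G) = T'
    · -- `N` contains a Sylow subgroup
      apply hHN
      obtain ⟨g, hg⟩ := MulAction.exists_smul_eq G R P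
      have hmap : ((R : Subgroup G).map (MulAut.conj g).toMonoidHom) = P := by
        rw [← hg]; rfl
      refine ih (Nat.card N) (hn ▸ Lib.Coprime.card_lt_of_ne_top hNtop) N (hsec.subgroup N) T rfl ?_
      refine hyp_of_injective hW N.subtype N.subtype_injective T.2 ?_
      rw [← hT', ← hRT]
      refine hyp_of_injective hW (MulAut.conj g).toMonoidHom (MulAut.conj g).injective R.2 ?_
      rw [hmap]
      exact hyp
    · have hlt : T' < (R : Subgroup G) := lt_of_le_of_ne hR (Ne.symm hRT)
      have hgrow := Lib.Fusion.lt_normalizer_inf R.2 hlt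
      have hT'ne : T' ≠ ⊥ := fun h => hHne (le_bot_iff.1 (h ▸ hHT))
      -- subgroups normalised by `N(T')` have nice normalisers
      have hgood : ∀ A : Subgroup G, IsPGroup p A → A ≠ ⊥ →
          normalizer (T' : Set G) ≤ normalizer (A : Set G) →
          HasNormalPComplement p (normalizer (A : Set G)) := by
        intro A hA hAne hle
        by_contra hbad
        have h1 := hmax A ⟨hA, hAne, hbad⟩
        set S := (R : Subgroup G) ⊓ normalizer (T' : Set G) with hS
        obtain ⟨a, ha⟩ := IsPGroup.iff_card.1 (R.2.to_le (inf_le_left : S ≤ R))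
        have h2 : Nat.card T' = p ^ (Nat.card N).factorization p := by
          rw [hT', card_map_of_injective N.subtype_injective]
          exact T.card_eq_multiplicity
        have h3 : Nat.card T' < Nat.card S :=
          lt_of_le_of_ne (card_le_of_le hgrow.le) fun e => hgrow.ne (eq_of_le_of_card_ge hgrow.le e.ge)
        rw [h2, ha, Nat.pow_lt_pow_iff_right hp.out.one_lt] at h3
        have h4 : p ^ a ∣ Nat.card (normalizer (A : Set G)) :=
          ha ▸ card_dvd_of_le (inf_le_right.trans hle)
        have h5 := (Nat.Prime.pow_dvd_iff_le_factorization hp.out Nat.card_pos.ne').1 h4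
        change (Nat.card N).factorization p < a at h3
        change (Nat.card (normalizer (A : Set G))).factorization p ≤ (Nat.card N).factorization p at h1
        omega
      apply hHN
      refine ih (Nat.card N) (hn ▸ Lib.Coprime.card_lt_of_ne_top hNtop) N (hsec.subgroup N) T rfl ?_
      refine hyp_of_injective hW N.subtype N.subtype_injective T.2 ?_
      rw [← hT']
      exact hgood _ (hT'p.to_le (induced_le T')) (induced_ne_bot hW hT'p hT'ne)
        (LocalFusion.normalizer_le_normalizer_functor (isConjugacyFunctor_induced hW) hT'p)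
  set H := pCore p G with hH
  have hHp : IsPGroup p H := Lib.Hall.isPGroup_pCore p
  have hHP : H ≤ P := Lib.Hall.pCore_le_sylow P
  -- the quotient has a normal p-complement
  let π := QuotientGroup.mk' H
  have hπ : Function.Surjective π := QuotientGroup.mk'_surjective H
  let Pb : Sylow p (G ⧸ H) := P.mapSurjective hπ
  have hPb : (Pb : Subgroup (G ⧸ H)) = (P : Subgroup G).map π := Sylow.coe_mapSurjective hπ P
  have hq : HasNormalPComplement p (G ⧸ H) := by
    refine ih _ (hn ▸ Lib.Coprime.card_quotient_lt hbot) (G ⧸ H) (hsec.quot H) Pb rfl ?_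
    have hne : (Pb : Subgroup (G ⧸ H)) ≠ ⊥ := by
      intro h
      rw [hPb, Subgroup.map_eq_bot_iff, QuotientGroup.ker_mk'] at h
      have e : (P : Subgroup G) = H := le_antisymm h hHP
      apply hG
      have hN : normalizer (Cfsg.inducedFunctor W₀ (P : Subgroup G) : Set G) = ⊤ := by
        refine top_le_iff.1 (le_trans ?_ (LocalFusion.normalizer_le_normalizer_functor (isConjugacyFunctor_induced hW) P.2))
        rw [e, normalizer_eq_top H]
      have := hyp
      rw [hN] at this
      exact Lib.Transfer.HasNormalPComplement.of_surjective (topEquiv (G := G)).toMonoidHom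
        (topEquiv (G := G)).surjective this
    -- preimages of local subgroups are proper subgroups containing the Sylow subgroup
    have hloc : ∀ A : Subgroup (G ⧸ H), IsPGroup p A → A ≠ ⊥ →
        (Pb : Subgroup (G ⧸ H)) ≤ normalizer (A : Set (G ⧸ H)) →
        HasNormalPComplement p (normalizer (A : Set (G ⧸ H))) := by
      intro A hA hAne hle
      have htop : normalizer (A : Set (G ⧸ H)) ≠ ⊤ := by
        intro h
        have : A.Normal := normalizer_eq_top_iff.1 h
        have h1 : A.comap π ≤ H := Lib.Hall.le_pCore (hA.comap_of_ker_isPGroup π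
          (by rw [QuotientGroup.ker_mk']; exact hHp))
        apply hAne
        rw [eq_bot_iff, ← map_comap_eq_self_of_surjective hπ A]
        rintro _ ⟨x, hx, rfl⟩
        exact mem_bot.2 ((QuotientGroup.eq_one_iff x).2 (h1 hx))
      have h1 : HasNormalPComplement p ((normalizer (A : Set (G ⧸ H))).comap π) := by
        refine step1 _ (map_le_iff_le_comap.1 (hPb ▸ hle)) fun h => htop ?_
        rw [← map_comap_eq_self_of_surjective hπ (normalizer (A : Set (G ⧸ H))), h, map_top_of_surjective π hπ]
      exact Lib.Transfer.HasNormalPComplement.of_surjective _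
        (π.subgroupComap_surjective_of_surjective _ hπ) h1
    exact hloc _ (Pb.2.to_le (induced_le _)) (induced_ne_bot hW Pb.2 hne)
      (le_normalizer.trans (LocalFusion.normalizer_le_normalizer_functor (isConjugacyFunctor_induced hW) Pb.2))
  set K := (pResidual p (G ⧸ H)).comap π with hK
  have : K.Normal := (inferInstance : (pResidual p (G ⧸ H)).Normal).comap π
  have hHK : H ≤ K := fun x hx => by
    rw [hK, mem_comap, show π x = 1 from (QuotientGroup.eq_one_iff x).2 hx]
    exact one_mem _
  have hKπ : K.map π = pResidual p (G ⧸ H) := map_comap_eq_self_of_surjective hπ _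
  have hKp : ¬ p ∣ Nat.card (K.map π) := hKπ ▸ Lib.Transfer.hasNormalPComplement_iff.1 hq
  have hKP : K ⊔ (P : Subgroup G) = ⊤ := by
    apply eq_top_iff.2
    intro x _
    have h1 : π x ∈ pResidual p (G ⧸ H) ⊔ Pb := (Lib.Transfer.pResidual_sup_sylow Pb).symm ▸ mem_top _
    rw [hPb, ← hKπ, ← Subgroup.map_sup] at h1
    obtain ⟨y, hy, e⟩ := h1
    have h2 : y⁻¹ * x ∈ H := QuotientGroup.eq.1 e
    rw [show x = y * (y⁻¹ * x) by group]
    exact mul_mem hy ((le_sup_left : K ≤ K ⊔ (P : Subgroup G)) (hHK h2))
  -- centraliser of `H`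
  have hCn : (centralizer (H : Set G)).Normal := normal_centralizer
  have hCle : centralizer (H : Set G) ≤ H := by
    have hCK : centralizer (H : Set G) ⊓ K ≤ H := by
      set C := centralizer (H : Set G) ⊓ K with hC
      have hC' : C.Normal := inferInstance
      have hCH : C ⊓ H ≤ H := inf_le_right
      obtain ⟨S, hS⟩ : ∃ S : Sylow p C, (S : Subgroup C) = H.subgroupOf C := by
        obtain ⟨S, hS⟩ := Lib.Transfer.exists_sylow_subgroupOf (H := C) (hHp.to_le hCH) inf_le_left (by
          intro hd
          apply hKp
          refine hd.trans ?_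
          have h1 := Lib.Coprime.card_map_mk' H C
          have h2 : (C ⊓ H).relIndex C = Nat.card (C.map π) := by
            have h3 : Nat.card (C ⊓ H : Subgroup G) * (C ⊓ H).relIndex C = Nat.card C := by
              rw [relIndex, ← Lib.Coprime.card_subgroupOf (inf_le_left : C ⊓ H ≤ C)]
              exact card_mul_index _
            rw [← h1, mul_comm] at h3
            exact Nat.eq_of_mul_eq_mul_right Nat.card_pos h3
          rw [h2]
          exact card_dvd_of_le (map_mono inf_le_right))
        exact ⟨S, hS.trans (inf_subgroupOf_left _ _)⟩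
      have hCnpc : HasNormalPComplement p C := by
        refine Lib.Transfer.hasNormalPComplement_of_normalizer_le_centralizer S fun c _ => ?_
        rw [mem_centralizer_iff]
        intro s hs
        replace hs : s ∈ (S : Subgroup C) := hs
        rw [hS, mem_subgroupOf] at hs
        exact Subtype.ext (mem_centralizer_iff.1 c.2.1 _ hs)
      have hres : (pResidual p C).map C.subtype = ⊥ := by
        have : (pResidual p C).Characteristic := Lib.Transfer.pResidual_characteristic
        refine hcore _ inferInstance ?_
        rw [card_map_of_injective C.subtype_injective]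
        exact (hp.out.coprime_iff_not_dvd.2 (Lib.Transfer.hasNormalPComplement_iff.1 hCnpc)).symm
      refine Lib.Hall.le_pCore ?_
      rw [Subgroup.map_eq_bot_iff_of_injective _ C.subtype_injective] at hres
      refine (Lib.Transfer.isPGroup_quotient_pResidual (G := C) (p := p)).of_equiv ?_
      exact (QuotientGroup.quotientMulEquivOfEq hres).trans QuotientGroup.quotientBot
    refine Lib.Hall.le_pCore ?_
    intro c
    obtain ⟨m, hm⟩ := Lib.Transfer.exists_pow_coprime (p := p) (c : G)
    have hcK : (c : G) ^ p ^ m ∈ K := by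
      rw [hK, mem_comap]
      exact Lib.Transfer.mem_pResidual (hm.coprime_dvd_left (orderOf_map_dvd π _))
    have h1 := Lib.Transfer.eq_one_of_isPGroup_of_coprime (g := (⟨_, hCK ⟨pow_mem c.2 _, hcK⟩⟩ : H)) hHp
      (by rwa [orderOf_mk])
    exact ⟨m, Subtype.ext (by simpa [Subtype.ext_iff] using h1)⟩
  -- `P` is a maximal subgroup
  have hmaxP : ∀ L : Subgroup G, (P : Subgroup G) ≤ L → L ≠ ⊤ → L = P := by
    intro L hL hne
    have hres := Lib.Transfer.hasNormalPComplement_iff.1 (step1 L hL hne)
    have hdis : pResidual p L ⊓ H.subgroupOf L = ⊥ :=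
      FPF.normal_pgroup_inf_eq_bot hHp.comap_subtype hres
    have hbotL : pResidual p L = ⊥ := by
      rw [eq_bot_iff]
      intro x hx
      have hxC : (x : G) ∈ centralizer (H : Set G) := mem_centralizer_iff.2 fun h hh =>
        (congrArg Subtype.val (commute_of_normal_of_disjoint (pResidual p L) (H.subgroupOf L) inferInstance
          inferInstance (disjoint_iff.2 hdis) x ⟨h, hL (hHP hh)⟩ hx hh).eq).symm
      rw [← hdis]
      exact ⟨hx, hCle hxC⟩
    have hLp : IsPGroup p L :=
      (Lib.Transfer.isPGroup_quotient_pResidual (G := L) (p := p)).of_equiv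
        ((QuotientGroup.quotientMulEquivOfEq hbotL).trans QuotientGroup.quotientBot)
    exact P.3 hLp hL
  have hPtop : (P : Subgroup G) ≠ ⊤ := by
    intro h
    apply hG
    have hGp : IsPGroup p G := by
      have h1 : IsPGroup p (⊤ : Subgroup G) := h ▸ P.2
      exact h1.of_equiv topEquiv
    rw [Lib.Transfer.hasNormalPComplement_iff, Lib.Transfer.pResidual_eq_bot hGp, card_bot]
    exact hp.out.not_dvd_one
  have hnor := hctl G hsec hCle hq P ⟨hPtop, fun L hL => by_contra fun hne =>
    hL.ne (hmaxP L hL.le hne).symm⟩
  apply hG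
  have hyp' := hyp
  rw [normalizer_eq_top_iff.2 hnor] at hyp'
  exact Lib.Transfer.HasNormalPComplement.of_surjective (topEquiv (G := G)).toMonoidHom
    (topEquiv (G := G)).surjective hyp'

end Cfsg.Agent.Lib.KInf
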