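import Mathlib
import Cfsg.Agent.Lib.KInf.Stable
import Cfsg.Agent.Lib.KInf.NPCSec

/-! Containment of the K-sequence in `O_p` for stable groups, and its use for pairs of subgroups sharing their cores.
The first theorem is the proof of `Critical.exists_good` started from the weaker hypothesis. -/

set_option autoImplicit false

open scoped commutatorElement

namespace Cfsg.Agent.Lib.KInf

universe u

open Cfsg.Agent.Lib.LocalFusion (kLower_map_iff kUpper_map_iff le_map_sSup map_sSup_le kSeq_stable kInf_map)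

variable {G : Type u} [Group G] {p : ℕ} [Finite G] [Fact p.Prime]

/-- The quadratic element on a critical subgroup, from a term of the K-sequence outside `O_p`. -/
theorem exists_good_of_terms (S : Sylow p G) (A : Subgroup G) (hAT : A ≤ Cfsg.pCore p G)
    (hAchar : (A.subgroupOf (Cfsg.pCore p G)).Characteristic)
    (hA1 : ∀ a ∈ A, a ^ p ∈ A ⊓ Subgroup.centralizer (A : Set G))
    (hA2 : ⁅A, A⁆ ≤ Subgroup.centralizer (A : Set G))
    (hA3 : ⁅Cfsg.pCore p G, A⁆ ≤ A ⊓ Subgroup.centralizer (A : Set G))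
    (hA5 : ∀ φ : MulAut ↥(Cfsg.pCore p G), (orderOf φ).Coprime p →
      (∀ a : ↥(Cfsg.pCore p G), (a : G) ∈ A → φ a = a) → φ = 1)
    (hK : ¬ ∀ n, evenIn (S : Subgroup G) n ≤ Cfsg.pCore p G ∧ oddIn (S : Subgroup G) (n + 1) ≤ Cfsg.pCore p G) :
    ∃ g : G, g ∈ (S : Subgroup G) ∧ g ∉ Cfsg.pCore p G ∧
      Cfsg.iterCommutator A (Subgroup.zpowers g) 3 ≤ A ⊓ Subgroup.centralizer (A : Set G) ∧
      ⁅⁅A ⊓ Subgroup.centralizer (A : Set G), Subgroup.zpowers g⁆, Subgroup.zpowers g⁆ = ⊥ ∧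
      (Subgroup.centralizer ((Cfsg.pCore p G : Subgroup G) : Set G) ≤ Cfsg.pCore p G →
        ∃ U V : Subgroup G, Cfsg.IsChiefFactor U V ∧ U ≤ A ∧
          ⁅⁅U, Subgroup.zpowers g⁆, Subgroup.zpowers g⁆ ≤ V ∧ ¬ ⁅U, Subgroup.zpowers g⁆ ≤ V) := by
  classical
  set T := Cfsg.pCore p G with hT
  have hTp : IsPGroup p ↥T := Cfsg.Agent.Lib.LocalChar.pCore_isPGroup
  haveI : T.Normal := Cfsg.Agent.Lib.LocalChar.pCore_normal
  haveI hAn : A.Normal := by
    rw [← subgroupOf_map_of_le hAT]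
    exact ConjAct.normal_of_characteristic_of_normal
  set Z := A ⊓ Subgroup.centralizer (A : Set G) with hZ
  haveI hZn : Z.Normal := inferInstance
  have hTS : T ≤ (S : Subgroup G) := Cfsg.Agent.Lib.LocalChar.pCore_le_sylow S
  have hAS : A ≤ (S : Subgroup G) := hAT.trans hTS
  have hAc : A ∈ Cfsg.classTwoSubgroups G := hA2
  have hAA : ⁅A, T⁆ ≤ Z := by rw [Subgroup.commutator_comm]; exact hA3
  have hZA : ⁅Z, A⁆ = ⊥ := Subgroup.commutator_eq_bot_iff_le_centralizer.2 inf_le_right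
  have mono : ∀ {X Y : Subgroup G} {g : G}, g ∈ Y →
      ⁅⁅X, Subgroup.zpowers g⁆, Subgroup.zpowers g⁆ ≤ ⁅⁅X, Y⁆, Y⁆ := fun hg =>
    Subgroup.commutator_mono (Subgroup.commutator_mono le_rfl (Subgroup.zpowers_le.2 hg)) (Subgroup.zpowers_le.2 hg)
  -- an element acting quadratically on both steps is good
  have quad : ∀ (X : Subgroup G) (g : G), g ∈ X → g ∈ (S : Subgroup G) → g ∉ T → ⁅⁅A, X⁆, X⁆ ≤ Z →
      ⁅⁅Z, X⁆, X⁆ = ⊥ → ∃ g : G, g ∈ (S : Subgroup G) ∧ g ∉ T ∧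
      Cfsg.iterCommutator A (Subgroup.zpowers g) 3 ≤ Z ∧
      ⁅⁅Z, Subgroup.zpowers g⁆, Subgroup.zpowers g⁆ = ⊥ ∧
      (Subgroup.centralizer ((T : Subgroup G) : Set G) ≤ T → ∃ U V : Subgroup G, Cfsg.IsChiefFactor U V ∧ U ≤ A ∧
        ⁅⁅U, Subgroup.zpowers g⁆, Subgroup.zpowers g⁆ ≤ V ∧ ¬ ⁅U, Subgroup.zpowers g⁆ ≤ V) := by
    intro X g hgX hgS hgT h1 h2
    have k1 : ⁅⁅A, Subgroup.zpowers g⁆, Subgroup.zpowers g⁆ ≤ Z := (mono hgX).trans h1
    have k2 : ⁅⁅Z, Subgroup.zpowers g⁆, Subgroup.zpowers g⁆ = ⊥ := le_bot_iff.1 ((mono hgX).trans h2.le)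
    refine ⟨g, hgS, hgT, (Subgroup.commutator_mono k1 le_rfl).trans (Subgroup.commutator_le_left Z _), k2, fun hC => ?_⟩
    by_contra hcon
    push Not at hcon
    exact hgT (mem_pCore_of_centralizes_factors hAT hA5 hC fun U V hUV hUA a ha =>
      hcon U V hUV hUA (quad_of_series k1 k2 hUV hUA)
        (Subgroup.commutator_mem_commutator ha (Subgroup.mem_zpowers g)))
  -- first case
  by_cases h1 : ∃ A1 : Subgroup G, A1 ≤ (S : Subgroup G) ∧ A1 ∈ Cfsg.classTwoSubgroups G ∧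
      A ≤ Subgroup.normalizer (A1 : Set G) ∧ ⁅A, ⁅A1, A1⁆⁆ = ⊥ ∧ ⁅⁅Z, A1⁆, A1⁆ = ⊥ ∧ ¬ ⁅A, A1⁆ ≤ Z
  · obtain ⟨A1, hA1S, -, hN, hb, hz, hnot⟩ := h1
    obtain ⟨g, hg, hgT⟩ : ∃ g ∈ A1, g ∉ T := SetLike.not_le_iff_exists.1 fun hle =>
      hnot ((Subgroup.commutator_mono le_rfl hle).trans hAA)
    refine quad A1 g hg (hA1S hg) hgT (le_inf ?_ ?_) hz
    · exact (Subgroup.commutator_mono (Subgroup.commutator_le_left A A1) le_rfl).trans (Subgroup.commutator_le_left A A1)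
    · have e : ⁅A, A1⁆ ≤ A1 := by
        rw [Subgroup.commutator_comm]
        exact Subgroup.le_normalizer_iff_commutator_le_left.1 hN
      refine (Subgroup.commutator_mono e le_rfl).trans ?_
      rw [← Subgroup.commutator_eq_bot_iff_le_centralizer, Subgroup.commutator_comm]
      exact hb
  push Not at h1
  have hlow : ∀ Q : Subgroup G, Q ≤ (S : Subgroup G) → A ∈ Cfsg.kLowerStarFamily Q := fun Q hQ =>
    ⟨hAc, Subgroup.le_normalizer_of_normal, fun A1 hA1c hA1Q hN hb hz =>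
      h1 A1 (hA1Q.trans hQ) hA1c hN hb hz⟩
  have hAE : ∀ n, A ≤ evenIn (S : Subgroup G) n := fun n => lower_le_evenIn hAS (hlow _ (oddIn_le _ n))
  -- second case
  by_cases h2 : ∃ n, ¬ oddIn (S : Subgroup G) (n + 1) ≤ T
  · obtain ⟨n, hn⟩ := h2
    obtain ⟨B, hBS, hBT, hB2, hBZ⟩ := exists_upper_not_le hn
    obtain ⟨g, hg, hgT⟩ := SetLike.not_le_iff_exists.1 hBT
    have e1 : ⁅A, B⁆ ≤ B ⊓ Subgroup.centralizer (B : Set G) := by
      rw [Subgroup.commutator_comm]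
      exact (Subgroup.commutator_mono le_rfl (hAE n)).trans hBZ
    have e2 : ⁅⁅A, B⁆, B⁆ = ⊥ := Subgroup.commutator_eq_bot_iff_le_centralizer.2 (e1.trans inf_le_right)
    exact quad B g hg (hBS hg) hgT (e2 ▸ bot_le)
      (le_bot_iff.1 ((Subgroup.commutator_mono (Subgroup.commutator_mono inf_le_left le_rfl) le_rfl).trans e2.le))
  push Not at h2
  -- some lower member lies outside `T`
  obtain ⟨n, hAn', hn⟩ : ∃ n, A ≤ oddIn (S : Subgroup G) n ∧ ¬ evenIn (S : Subgroup G) n ≤ T := by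
    by_contra hcon
    push Not at hcon
    have hAO : ∀ n, A ≤ oddIn (S : Subgroup G) n := by
      intro n
      induction n with
      | zero => rw [oddIn_zero]; exact hAS
      | succ n ih =>
        exact upper_le_oddIn hAS ⟨hAc, (Subgroup.commutator_mono le_rfl (hcon n ih)).trans hAA⟩
    exact hK fun n => ⟨hcon n (hAO n), h2 n⟩
  obtain ⟨B, hBS, hBT, hBc, hQN, hBfam⟩ := exists_lower_not_le hn
  have hAB : ⁅A, B⁆ ≤ B := by
    rw [Subgroup.commutator_comm]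
    exact Subgroup.le_normalizer_iff_commutator_le_left.1 (hAn'.trans hQN)
  have hB2 : ⁅⁅B, B⁆, B⁆ = ⊥ := Subgroup.commutator_eq_bot_iff_le_centralizer.2 hBc
  have h3B : ⁅⁅⁅A, B⁆, B⁆, B⁆ = ⊥ :=
    le_bot_iff.1 ((Subgroup.commutator_mono (Subgroup.commutator_mono hAB le_rfl) le_rfl).trans hB2.le)
  have hBZB : ⁅B, Z⁆ ≤ B ⊓ Subgroup.centralizer (B : Set G) := by
    have hZZ : ⁅Z, Z⁆ = ⊥ := le_bot_iff.1 ((Subgroup.commutator_mono le_rfl inf_le_left).trans hZA.le)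
    refine hBfam Z ?_ (inf_le_left.trans hAn') Subgroup.le_normalizer_of_normal ?_ ?_
    · show ⁅Z, Z⁆ ≤ _
      rw [hZZ]; exact bot_le
    · rw [hZZ]; exact Subgroup.commutator_bot_right B
    · exact le_bot_iff.1 ((Subgroup.commutator_mono (Subgroup.commutator_le_right _ Z) le_rfl).trans hZZ.le)
  have hZBB : ⁅⁅Z, B⁆, B⁆ = ⊥ := by
    rw [Subgroup.commutator_comm Z B]
    exact Subgroup.commutator_eq_bot_iff_le_centralizer.2 (hBZB.trans inf_le_right)
  have good : ∀ g ∈ B, Cfsg.iterCommutator A (Subgroup.zpowers g) 3 ≤ Z ∧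
      ⁅⁅Z, Subgroup.zpowers g⁆, Subgroup.zpowers g⁆ = ⊥ := fun g hg =>
    ⟨le_trans (Subgroup.commutator_mono (mono hg) (Subgroup.zpowers_le.2 hg)) (h3B.trans_le bot_le),
      le_bot_iff.1 ((mono hg).trans hZBB.le)⟩
  suffices h : Subgroup.centralizer ((T : Subgroup G) : Set G) ≤ T → ∃ g ∈ B, g ∉ T ∧
      ∃ U V : Subgroup G, Cfsg.IsChiefFactor U V ∧ U ≤ A ∧
        (∀ a ∈ U, ⁅⁅a, g⁆, g⁆ ∈ V) ∧ ∃ a ∈ U, ⁅a, g⁆ ∉ V by
    by_cases hC : Subgroup.centralizer ((T : Subgroup G) : Set G) ≤ T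
    · obtain ⟨g, hg, hgT, U, V, hUV, hUA, hq, a, ha, hna⟩ := h hC
      haveI := hUV.2.1
      haveI := hUV.2.2.1
      exact ⟨g, hBS hg, hgT, (good g hg).1, (good g hg).2, fun _ => ⟨U, V, hUV, hUA,
        commutator_zpowers_zpowers_le (chief_abelian hTp hUV (hUA.trans hAT)) hq,
        fun h' => hna (h' (Subgroup.commutator_mem_commutator ha (Subgroup.mem_zpowers g)))⟩⟩
    · obtain ⟨g, hg, hgT⟩ := SetLike.not_le_iff_exists.1 hBT
      exact ⟨g, hBS hg, hgT, (good g hg).1, (good g hg).2, fun h' => absurd h' hC⟩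
  intro hC
  by_contra hcon
  push Not at hcon
  have hnq : ∀ g ∈ B, ∀ U V : Subgroup G, Cfsg.IsChiefFactor U V → U ≤ A →
      (∀ a ∈ U, ⁅⁅a, g⁆, g⁆ ∈ V) → ∀ a ∈ U, ⁅a, g⁆ ∈ V := by
    intro g hg U V hUV hUA hq a ha
    by_cases hgT : g ∈ T
    · exact chief_commutator_le hTp hUV (hUA.trans hAT) (Subgroup.commutator_mem_commutator ha hgT)
    · exact hcon g hg hgT U V hUV hUA hq a ha
  have hmemZ : ∀ z ∈ Z, ∀ c ∈ B, ∀ c' ∈ B, ⁅⁅z, c⁆, c'⁆ = 1 := fun z hz c hc c' hc' =>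
    Subgroup.mem_bot.1 (hZBB ▸ Subgroup.commutator_mem_commutator (Subgroup.commutator_mem_commutator hz hc) hc')
  have hmem3 : ∀ a ∈ A, ∀ b ∈ B, ∀ b' ∈ B, ∀ b'' ∈ B, ⁅⁅⁅a, b⁆, b'⁆, b''⁆ = 1 := fun a ha b hb b' hb' b'' hb'' =>
    Subgroup.mem_bot.1 (h3B ▸ Subgroup.commutator_mem_commutator
      (Subgroup.commutator_mem_commutator (Subgroup.commutator_mem_commutator ha hb) hb') hb'')
  have hZfix : ∀ g ∈ B, ∀ U V : Subgroup G, Cfsg.IsChiefFactor U V → U ≤ Z → ∀ a ∈ U, ⁅a, g⁆ ∈ V := by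
    intro g hg U V hUV hUZ
    refine hnq g hg U V hUV (hUZ.trans inf_le_left) fun a ha => ?_
    rw [hmemZ a (hUZ ha) g hg g hg]
    exact V.one_mem
  have htriv : ∀ g ∈ B, (∀ a ∈ A, ⁅⁅a, g⁆, g⁆ ∈ Z) → g ∈ T := by
    intro g hg hq
    refine mem_pCore_of_centralizes_factors hAT hA5 hC fun U V hUV hUA a ha => ?_
    haveI := hUV.2.1
    haveI := hUV.2.2.1
    rcases chief_split (Z := Z) hUV with h | h
    · obtain ⟨z, hz, v, hv, rfl⟩ := Subgroup.mem_sup_of_normal_right.1 (h ha)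
      refine hnq g hg U V hUV hUA (fun b hb => ?_) _ ha
      obtain ⟨z', hz', v', hv', rfl⟩ := Subgroup.mem_sup_of_normal_right.1 (h hb)
      rw [← mk_comm_eq_one_iff, map_commutatorElement, map_mul, (QuotientGroup.eq_one_iff v').2 hv' |> (show QuotientGroup.mk' V v' = 1 from ·),
        mul_one, ← map_commutatorElement, mk_comm_eq_one_iff,
        hmemZ z' hz'.2 g hg g hg]
      exact V.one_mem
    · refine hnq g hg U V hUV hUA (fun b hb => h ⟨?_, hq b (hUA hb)⟩) a ha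
      have h5 : ⁅b, g⁆ ∈ U := Subgroup.commutator_le_left U ⊤ (Subgroup.commutator_mem_commutator hb (Subgroup.mem_top g))
      exact Subgroup.commutator_le_left U ⊤ (Subgroup.commutator_mem_commutator h5 (Subgroup.mem_top g))
  obtain ⟨b, hb, hbT⟩ := SetLike.not_le_iff_exists.1 hBT
  by_cases hp2 : p = 2
  · -- in characteristic two the square takes over
    refine hbT (mem_pCore_of_centralizes_factors hAT hA5 hC fun U V hUV hUA => ?_)
    haveI := hUV.2.1
    haveI := hUV.2.2.1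
    have hUTT := hUA.trans hAT
    refine hnq b hb U V hUV hUA fun a ha => ?_
    have hsq : ∀ c ∈ U, ⁅c, b ^ 2⁆ * ⁅⁅c, b⁆, b⁆⁻¹ ∈ V := by
      intro c hc
      set x := ⁅c, b⁆ with hx
      have hxU : x ∈ U := Subgroup.commutator_le_left U ⊤ (Subgroup.commutator_mem_commutator hc (Subgroup.mem_top b))
      set y := ⁅x, b⁆ with hy
      have hyU : y ∈ U := Subgroup.commutator_le_left U ⊤ (Subgroup.commutator_mem_commutator hxU (Subgroup.mem_top b))
      have e : ⁅c, b ^ 2⁆ = x * y⁻¹ * x := by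
        rw [hy, hx, pow_two]; simp only [commutatorElement_def]; group
      have hxy : Commute (QuotientGroup.mk' V x) (QuotientGroup.mk' V y) :=
        (mk_comm_eq_one_iff V).2 (chief_abelian hTp hUV hUTT (Subgroup.commutator_mem_commutator hxU hyU))
      have hsqx : QuotientGroup.mk' V x * QuotientGroup.mk' V x = 1 := by
        rw [← pow_two, ← map_pow, ← hp2]
        exact (QuotientGroup.eq_one_iff _).2 (chief_pow_mem hTp hUV hUTT hxU)
      have hsqy : QuotientGroup.mk' V y * QuotientGroup.mk' V y = 1 := by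
        rw [← pow_two, ← map_pow, ← hp2]
        exact (QuotientGroup.eq_one_iff _).2 (chief_pow_mem hTp hUV hUTT hyU)
      refine (QuotientGroup.eq_one_iff _).1 ?_
      show QuotientGroup.mk' V (⁅c, b ^ 2⁆ * y⁻¹) = 1
      rw [e, map_mul, map_mul, map_mul, map_inv, mul_assoc (QuotientGroup.mk' V x), hxy.inv_right.symm.eq,
        ← mul_assoc, hsqx, one_mul, ← mul_inv_rev, hsqy, inv_one]
    have hiff : ∀ c ∈ U, (⁅c, b ^ 2⁆ ∈ V ↔ ⁅⁅c, b⁆, b⁆ ∈ V) := fun c hc => by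
      exact ⟨fun h' => inv_mem_iff.1 ((Subgroup.mul_mem_cancel_left V h').1 (hsq c hc)),
        fun h' => (Subgroup.mul_mem_cancel_right V (inv_mem h')).1 (hsq c hc)⟩
    refine (hiff a ha).1 (hnq (b ^ 2) (B.pow_mem hb 2) U V hUV hUA (fun c hc => ?_) a ha)
    have hc2U : ⁅c, b ^ 2⁆ ∈ U := Subgroup.commutator_le_left U ⊤ (Subgroup.commutator_mem_commutator hc (Subgroup.mem_top _))
    refine (hiff _ hc2U).2 ?_
    have hd : QuotientGroup.mk' V ⁅c, b ^ 2⁆ = QuotientGroup.mk' V ⁅⁅c, b⁆, b⁆ := by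
      have h6 : QuotientGroup.mk' V (⁅c, b ^ 2⁆ * ⁅⁅c, b⁆, b⁆⁻¹) = 1 := (QuotientGroup.eq_one_iff _).2 (hsq c hc)
      rw [map_mul, map_inv, mul_inv_eq_one] at h6
      exact h6
    refine (QuotientGroup.eq_one_iff _).1 ?_
    show QuotientGroup.mk' V ⁅⁅⁅c, b ^ 2⁆, b⁆, b⁆ = 1
    rw [map_commutatorElement, map_commutatorElement, hd, ← map_commutatorElement, ← map_commutatorElement,
      hmem3 c (hUA hc) b hb b hb b hb]
    simp
  · refine odd_case hp2 hAT hA1 hA2 hA5 hC (S.2.to_le hBS) hBT (fun z hz c hc c' hc' => ?_) ?_ hnq hZfix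
    · exact (commutatorElement_eq_one_iff_commute.1
        (Subgroup.mem_bot.1 (hZBB ▸ Subgroup.commutator_mem_commutator (Subgroup.commutator_mem_commutator hz hc) hc'))).symm
    intro a ha hcom b₁ hb₁
    set ZB := B ⊓ Subgroup.centralizer (B : Set G) with hZB
    have hZBT : ZB ≤ T := fun c hc => htriv c hc.1 fun a' ha' => by
      rw [commutatorElement_eq_one_iff_commute.2 (show Commute ⁅a', c⁆ c from
        hc.2 _ (hAB (Subgroup.commutator_mem_commutator ha' hc.1)))]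
      exact Z.one_mem
    set O : Set G := (fun c => c * a * c⁻¹) '' (B : Set G) with hO
    set A1 := Z ⊔ Subgroup.closure O with hA1def
    have hOA : O ⊆ A := by rintro _ ⟨c, -, rfl⟩; exact hAn.conj_mem a ha c
    have hA1A : A1 ≤ A := sup_le inf_le_left ((Subgroup.closure_le _).2 hOA)
    have hBnorm : B ≤ Subgroup.normalizer (A1 : Set G) := by
      intro c hc
      apply Cfsg.Agent.Lib.LocalFusion.mem_normalizer_of_map_conj_eq
      rw [hA1def, Subgroup.map_sup, MonoidHom.map_closure,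
        Cfsg.Agent.Lib.LocalFusion.map_conj_eq_of_mem_normalizer (Subgroup.le_normalizer_of_normal (Subgroup.mem_top c) : c ∈ Subgroup.normalizer (Z : Set G))]
      congr 2
      ext y
      constructor
      · rintro ⟨_, ⟨d, hd, rfl⟩, rfl⟩
        exact ⟨c * d, B.mul_mem hc hd, by simp [mul_assoc]⟩
      · rintro ⟨d, hd, rfl⟩
        exact ⟨c⁻¹ * d * a * (c⁻¹ * d)⁻¹, ⟨c⁻¹ * d, B.mul_mem (B.inv_mem hc) hd, rfl⟩, by simp [mul_assoc]⟩
    have hcentA : ∀ u ∈ A, ∀ w ∈ A, ∀ y ∈ A, y * ⁅u, w⁆ * y⁻¹ = ⁅u, w⁆ := fun u hu w hw y hy => by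
      rw [Subgroup.mem_centralizer_iff.1 (hA2 (Subgroup.commutator_mem_commutator hu hw)) y hy, mul_inv_cancel_right]
    have hgen : ∀ u ∈ O, ∀ w ∈ O, ⁅u, w⁆ ∈ Subgroup.centralizer (B : Set G) := by
      rintro _ ⟨c, hc, rfl⟩ _ ⟨d, hd, rfl⟩
      have hcd : c⁻¹ * d ∈ B := B.mul_mem (B.inv_mem hc) hd
      set e := ⁅a, (c⁻¹ * d) * a * (c⁻¹ * d)⁻¹⁆ with he
      have hconj : ⁅c * a * c⁻¹, d * a * d⁻¹⁆ = c * e * c⁻¹ := by
        rw [he]; simp only [commutatorElement_def]; group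
      rw [hconj, (hcom _ hcd c hc).eq, mul_inv_cancel_right]
      exact fun b' hb' => (hcom _ hcd b' hb').eq
    let Kc : (u : G) → u ∈ A → Subgroup G := fun u hu =>
      { carrier := {y | y ∈ A ∧ ⁅u, y⁆ ∈ Subgroup.centralizer (B : Set G)}
        one_mem' := ⟨A.one_mem, by rw [commutatorElement_eq_one_iff_commute.2 (Commute.one_right u)]; exact one_mem _⟩
        mul_mem' := fun {y z} hy hz => ⟨A.mul_mem hy.1 hz.1, by
          rw [show ⁅u, y * z⁆ = ⁅u, y⁆ * (y * ⁅u, z⁆ * y⁻¹) by simp only [commutatorElement_def]; group,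
            hcentA u hu z hz.1 y hy.1]
          exact mul_mem hy.2 hz.2⟩
        inv_mem' := fun {y} hy => ⟨A.inv_mem hy.1, by
          rw [show ⁅u, y⁻¹⁆ = y⁻¹ * ⁅u, y⁆⁻¹ * y⁻¹⁻¹ by simp only [commutatorElement_def]; group,
            ← conj_inv, hcentA u hu y hy.1 y⁻¹ (A.inv_mem hy.1)]
          exact inv_mem hy.2⟩ }
    have hZgen : ∀ u ∈ A, ∀ w ∈ Z, ⁅u, w⁆ = 1 := fun u hu w hw =>
      commutatorElement_eq_one_iff_commute.2 (hw.2 u hu)
    have hbase : ∀ u ∈ O, ∀ w ∈ A1, ⁅u, w⁆ ∈ Subgroup.centralizer (B : Set G) := by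
      intro u hu
      have hle : A1 ≤ Kc u (hOA hu) := sup_le
        (fun w hw => ⟨hw.1, by rw [hZgen u (hOA hu) w hw]; exact one_mem _⟩)
        ((Subgroup.closure_le _).2 fun w hw => ⟨hOA hw, hgen u hu w hw⟩)
      exact fun w hw => (hle hw).2
    have hA1comm : ⁅A1, A1⁆ ≤ Subgroup.centralizer (B : Set G) := by
      refine Subgroup.commutator_le.2 fun u hu w hw => ?_
      rw [← commutatorElement_inv]
      refine inv_mem ?_
      have hle : A1 ≤ Kc w (hA1A hw) := sup_le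
        (fun y hy => ⟨hy.1, by rw [hZgen w (hA1A hw) y hy]; exact one_mem _⟩)
        ((Subgroup.closure_le _).2 fun y hy => ⟨hOA hy, by
          rw [← commutatorElement_inv]; exact inv_mem (hbase y hy w hw)⟩)
      exact (hle hu).2
    have hfam := hBfam A1 ?_ (hA1A.trans hAn') hBnorm ?_ ?_
    · have haA1 : a ∈ A1 := Subgroup.mem_sup_right (Subgroup.subset_closure ⟨1, B.one_mem, by simp⟩)
      have h7 : ⁅a, b₁⁆ ∈ ZB := by
        rw [← commutatorElement_inv]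
        exact inv_mem (hfam (Subgroup.commutator_mem_commutator hb₁ haA1))
      exact commutatorElement_eq_one_iff_commute.2 (show Commute ⁅a, b₁⁆ b₁ from (h7.2 b₁ hb₁).symm)
    · exact (Subgroup.commutator_mono hA1A hA1A).trans (hA2.trans (Subgroup.centralizer_le (SetLike.coe_subset_coe.2 hA1A)))
    · rw [Subgroup.commutator_comm]
      exact Subgroup.commutator_eq_bot_iff_le_centralizer.2 hA1comm
    · exact le_bot_iff.1 ((Subgroup.commutator_mono ((Subgroup.commutator_mono hZBT hA1A).trans hA3) hA1A).trans hZA.le)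


/-- For odd `p`, abelian 2-subgroups and a self-centralising `O_p`, the whole K-sequence lies in `O_p`. -/
theorem terms_le_pCore (hp2 : p ≠ 2) (hab : AbTwo G)
    (hC : Subgroup.centralizer ((Cfsg.pCore p G : Subgroup G) : Set G) ≤ Cfsg.pCore p G) (S : Sylow p G) (n : ℕ) :
    evenIn (S : Subgroup G) n ≤ Cfsg.pCore p G ∧ oddIn (S : Subgroup G) (n + 1) ≤ Cfsg.pCore p G := by
  revert n
  by_contra hK
  set T := Cfsg.pCore p G with hT
  have hTp : IsPGroup p ↥T := Cfsg.Agent.Lib.LocalChar.pCore_isPGroup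
  obtain ⟨H, hchar, hpow, hcomm, hTH, hcent, haut⟩ := exists_critical_aut (p := p) hTp
  haveI : T.Normal := Cfsg.Agent.Lib.LocalChar.pCore_normal
  set A := H.map T.subtype with hA
  have hAT : A ≤ T := Subgroup.map_subtype_le H
  have hsub : A.subgroupOf T = H := Subgroup.comap_map_eq_self_of_injective T.subtype_injective H
  have hcA : ∀ x : ↥T, x ∈ Subgroup.centralizer (H : Set ↥T) ↔ (x : G) ∈ Subgroup.centralizer (A : Set G) := by
    intro x
    constructor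
    · rintro hx _ ⟨a, ha, rfl⟩
      exact congrArg Subtype.val (hx a ha)
    · intro hx a ha
      exact Subtype.ext (hx _ ⟨a, ha, rfl⟩)
  have hmapZ : (H ⊓ Subgroup.centralizer (H : Set ↥T)).map T.subtype ≤ A ⊓ Subgroup.centralizer (A : Set G) := by
    rintro _ ⟨y, ⟨hy1, hy2⟩, rfl⟩
    exact ⟨⟨y, hy1, rfl⟩, (hcA y).1 hy2⟩
  have hA1 : ∀ a ∈ A, a ^ p ∈ A ⊓ Subgroup.centralizer (A : Set G) := by
    rintro _ ⟨a, ha, rfl⟩
    exact hmapZ ⟨a ^ p, hpow a ha, rfl⟩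
  have hA2 : ⁅A, A⁆ ≤ Subgroup.centralizer (A : Set G) := by
    rw [hA, ← Subgroup.map_commutator]
    rintro _ ⟨y, hy, rfl⟩
    exact (hcA y).1 (hcomm hy)
  have hA3 : ⁅T, A⁆ ≤ A ⊓ Subgroup.centralizer (A : Set G) := by
    have e : T = (⊤ : Subgroup ↥T).map T.subtype := by rw [← MonoidHom.range_eq_map, Subgroup.range_subtype]
    conv_lhs => arg 1; rw [e]
    rw [hA, ← Subgroup.map_commutator, ← hA]
    exact (Subgroup.map_mono hTH).trans hmapZ
  have hA5 : ∀ φ : MulAut ↥T, (orderOf φ).Coprime p → (∀ a : ↥T, (a : G) ∈ A → φ a = a) → φ = 1 :=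
    fun φ hφ hfix => haut φ hφ fun a ha => hfix a ⟨a, ha, rfl⟩
  obtain ⟨g, -, -, -, -, hch⟩ := exists_good_of_terms S A hAT (hsub.symm ▸ hchar) hA1 hA2 hA3 hA5 hK
  obtain ⟨U, V, hUV, hUA, hq, hnt⟩ := hch hC
  haveI : V.Normal := hUV.2.2.1
  exact not_stable_of_factor hUV (hTp.to_le (hUA.trans hAT)) hq hnt
    (isNormalizerPStable_of_abTwo hp2 (hab.of_surj (QuotientGroup.mk' V) (QuotientGroup.mk'_surjective V)))

/-- Under the same hypotheses `K∞` of any `p`-subgroup containing `O_p` is normal. -/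
theorem kInfLower_normal (hp2 : p ≠ 2) (hab : AbTwo G)
    (hC : Subgroup.centralizer ((Cfsg.pCore p G : Subgroup G) : Set G) ≤ Cfsg.pCore p G)
    {R : Subgroup G} (hR : IsPGroup p ↥R) (hTR : Cfsg.pCore p G ≤ R) :
    (Cfsg.inducedFunctor Cfsg.kInfLower R).Normal := by
  set T := Cfsg.pCore p G with hT
  haveI : T.Normal := Cfsg.Agent.Lib.LocalChar.pCore_normal
  obtain ⟨S, hRS⟩ := hR.exists_le_sylow
  have hterms := terms_le_pCore hp2 hab hC S
  have hn := (kInf_normal S (T := T) (hTR.trans hRS) hterms).1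
  set Q : Subgroup ↥(S : Subgroup G) := R.subgroupOf S with hQ
  obtain ⟨⟨a, ha⟩, -⟩ := kInf_map Q fun n =>
    ⟨Subgroup.map_le_iff_le_comap.1 ((hterms n).1.trans hTR), Subgroup.map_le_iff_le_comap.1 ((hterms n).2.trans hTR)⟩
  obtain ⟨c, hc⟩ := kSeq_stable (P := ↥Q)
  have hlow : (Cfsg.kInfLower ↥Q).map Q.subtype = Cfsg.kInfLower ↥(S : Subgroup G) := by
    rw [← (hc (max a c) (le_max_right _ _)).1]; exact ha _ (le_max_left _ _)
  have h1 := induced_map (W := Cfsg.kInfLower) (isCharPFunctor_kInfLower p) (S : Subgroup G).subtype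
    (S.2.to_subgroup Q) (Subgroup.subtype_injective _).injOn
  rw [subgroupOf_map_of_le hRS] at h1
  have h2 : Cfsg.inducedFunctor Cfsg.kInfLower (S : Subgroup G) = Cfsg.inducedFunctor Cfsg.kInfLower R := by
    rw [h1]
    exact congrArg (Subgroup.map (S : Subgroup G).subtype) hlow.symm
  exact h2 ▸ hn

end Cfsg.Agent.Lib.KInf
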