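import Mathlib
import Cfsg.Agent.Lib.KInf.AbelianCubic
import Cfsg.Agent.Lib.KInf.CubicAutomorphism
import Cfsg.Agent.Lib.KInf.NPCMax
import Cfsg.Agent.Lib.KInf.Stable
import Cfsg.Agent.Lib.Thompson.ZJ
import Cfsg.Agent.Lib.Thompson.NPCFunctor

/-!
For `p ≥ 5` the abelian subgroups of largest order of a maximal Sylow subgroup lie in `O_p`, in a constrained
group with a normal `p`-complement modulo `O_p`.
-/

set_option autoImplicit false
set_option linter.style.haveILetI false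

open scoped commutatorElement
open Subgroup

namespace Cfsg.Agent.Lib.KInf

universe u

open Cfsg

variable {X : Type u} [Group X] [Finite X] {p : ℕ} [hp : Fact p.Prime]

/-- The noncentral factor: a normal subgroup of `O_p` whose proper normal subgroups are centralised by `O^p`. -/
theorem exists_noncentral_factor (hC : centralizer (pCore p X : Set X) ≤ pCore p X)
    (hne : ¬ pResidual p X ≤ pCore p X) :
    ∃ Y Y0 : Subgroup X, Y.Normal ∧ Y0.Normal ∧ Y0 < Y ∧ Y ≤ pCore p X ∧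
      (∀ N : Subgroup X, N.Normal → Y0 ≤ N → N ≤ Y → N = Y0 ∨ N = Y) ∧
      Y0 ≤ centralizer (Y : Set X) ∧ pResidual p X ≤ centralizer (Y0 : Set X) ∧
      ⁅Y, pCore p X⁆ ≤ Y0 ∧ ¬ ⁅Y, pResidual p X⁆ ≤ Y0 ∧ (∀ y ∈ Y, y ^ p ∈ Y0) := by
  classical
  set P := pCore p X with hP
  set R := pResidual p X with hR
  haveI hPn : P.Normal := Cfsg.Agent.Lib.LocalChar.pCore_normal
  have hPp : IsPGroup p ↥P := Cfsg.Agent.Lib.LocalChar.pCore_isPGroup
  obtain ⟨Y, ⟨hYn, hYP, hYR⟩, hYmin⟩ := exists_minimal_of_wellFoundedLT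
    (fun N : Subgroup X => N.Normal ∧ N ≤ P ∧ ¬ R ≤ centralizer (N : Set X))
    ⟨P, hPn, le_rfl, fun h => hne (h.trans hC)⟩
  haveI := hYn
  have hprop : ∀ N : Subgroup X, N.Normal → N < Y → R ≤ centralizer (N : Set X) := fun N hN hlt => by
    by_contra h
    exact hlt.not_ge (hYmin ⟨hN, hlt.le.trans hYP, h⟩ hlt.le)
  have hYc : Y ≤ ⁅Y, R⁆ := by
    refine hYmin ⟨inferInstance, (commutator_le_left Y R).trans hYP, fun h => hYR ?_⟩ (commutator_le_left Y R)
    rw [hR, pResidual, closure_le]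
    intro w hw
    refine Cfsg.Agent.Lib.Thompson.mem_centralizer_of_factor (hPp.to_le hYP) (commutator_le_left Y R) hw
      (h (Cfsg.Agent.Lib.Transfer.mem_pResidual hw)) fun x hx => ?_
    rw [show x⁻¹ * (w * x * w⁻¹) = ⁅x⁻¹, w⁆ by simp only [commutatorElement_def]; group]
    exact commutator_mem_commutator (Y.inv_mem hx) (Cfsg.Agent.Lib.Transfer.mem_pResidual hw)
  have hcentral : ∀ N : Subgroup X, N.Normal → N < Y → N ≤ centralizer (Y : Set X) := fun N hN hlt => by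
    haveI := hN
    have h0 := hprop N hN hlt
    have h1 : ⁅⁅Y, R⁆, N⁆ = ⊥ := by
      refine commutator_commutator_eq_bot_of_rotate ?_ ?_
      · rw [(commutator_eq_bot_iff_le_centralizer (H₁ := R) (H₂ := N)).2 h0]; exact commutator_bot_left _
      · refine le_bot_iff.1 ((commutator_mono (commutator_le_left N Y) le_rfl).trans (le_of_eq ?_))
        rw [commutator_eq_bot_iff_le_centralizer]
        exact le_centralizer_iff.1 h0
    rw [commutator_eq_bot_iff_le_centralizer] at h1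
    exact le_centralizer_iff.1 (hYc.trans h1)
  have hYne : Y ≠ ⊥ := fun e => hYR (by rw [e]; intro g _ x hx; rw [mem_bot.1 hx]; simp)
  obtain ⟨Y0, hY0⟩ := (Set.toFinite {N : Subgroup X | N.Normal ∧ N < Y}).exists_maximal
    ⟨⊥, inferInstance, bot_lt_iff_ne_bot.2 hYne⟩
  obtain ⟨⟨hY0n, hY0Y⟩, hY0max⟩ := hY0
  haveI := hY0n
  have hmin : ∀ N : Subgroup X, N.Normal → Y0 ≤ N → N ≤ Y → N = Y0 ∨ N = Y := fun N hN h1 h2 => by
    rcases eq_or_lt_of_le h2 with h | h
    · exact Or.inr h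
    · exact Or.inl (le_antisymm (hY0max ⟨hN, h⟩ h1) h1)
  have hYP' : ⁅Y, P⁆ ≤ Y0 := by
    rcases hmin (⁅Y, P⁆ ⊔ Y0) (Subgroup.sup_normal _ _) le_sup_right (sup_le (commutator_le_left Y P) hY0Y.le)
      with h | h
    · exact le_sup_left.trans h.le
    · exfalso
      have hk : ∀ k, Y ≤ Cfsg.iterCommutator Y P k ⊔ Y0 := by
        intro k
        induction k with
        | zero => exact le_sup_left
        | succ k ih =>
          refine h.ge.trans (sup_le ?_ le_sup_right)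
          exact (commutator_mono ih le_rfl).trans (Cfsg.Agent.S2003.sup_comm_le _ P Y0)
      obtain ⟨n, hn⟩ := Cfsg.Agent.Lib.LocalChar.exists_iter_eq_bot hPp hYP (le_refl P)
      exact hY0Y.not_ge (by simpa [hn] using hk n)
  have hnot : ¬ ⁅Y, R⁆ ≤ Y0 := fun h => hY0Y.not_ge (hYc.trans h)
  refine ⟨Y, Y0, hYn, hY0n, hY0Y, hYP, hmin, hcentral Y0 hY0n hY0Y, hprop Y0 hY0n hY0Y, hYP', hnot, ?_⟩
  -- exponent `p`
  set π := QuotientGroup.mk' Y0 with hπ
  have hab : ∀ a ∈ Y, ∀ b ∈ Y, Commute (π a) (π b) := fun a ha b hb => by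
    rw [← commutatorElement_eq_one_iff_commute, ← map_commutatorElement]
    exact (QuotientGroup.eq_one_iff _).2 (hYP' (commutator_mem_commutator ha (hYP hb)))
  let Ep : Subgroup X :=
    { carrier := {y | y ∈ Y ∧ (π y) ^ p = 1}
      one_mem' := ⟨one_mem _, by simp⟩
      mul_mem' := fun {a b} ha hb => ⟨mul_mem ha.1 hb.1, by
        rw [map_mul, (hab a ha.1 b hb.1).mul_pow, ha.2, hb.2, one_mul]⟩
      inv_mem' := fun {a} ha => ⟨inv_mem ha.1, by rw [map_inv, inv_pow, ha.2, inv_one]⟩ }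
  have hEn : Ep.Normal := ⟨fun y hy g => ⟨hYn.conj_mem y hy.1 g, by
    rw [map_mul, map_mul, map_inv, conj_pow, hy.2, mul_one, mul_inv_cancel]⟩⟩
  have hY0E : Y0 ≤ Ep := fun y hy => ⟨hY0Y.le hy, by
    rw [show π y = 1 from (QuotientGroup.eq_one_iff y).2 hy, one_pow]⟩
  rcases hmin Ep hEn hY0E (fun y hy => hy.1) with h | h
  · exfalso
    have hne1 : Y.map π ≠ ⊥ := fun e => by
      rw [Subgroup.map_eq_bot_iff, hπ, QuotientGroup.ker_mk'] at e
      exact hY0Y.not_ge e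
    have : Nontrivial ↥(Y.map π) := (nontrivial_iff_ne_bot _).2 hne1
    obtain ⟨k, hk⟩ := IsPGroup.iff_card.1 ((hPp.to_le hYP).map π)
    have hk0 : k ≠ 0 := fun h0 => by
      rw [h0, pow_zero] at hk; exact absurd hk (ne_of_gt Finite.one_lt_card)
    obtain ⟨⟨_, y, hy, rfl⟩, hz⟩ := exists_prime_orderOf_dvd_card' (G := ↥(Y.map π)) p (hk ▸ dvd_pow_self p hk0)
    rw [← orderOf_injective (Y.map π).subtype (subtype_injective _)] at hz
    change orderOf (π y) = p at hz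
    have hyE : y ∈ Ep := ⟨hy, by rw [← hz, pow_orderOf_eq_one]⟩
    rw [h] at hyE
    rw [show π y = 1 from (QuotientGroup.eq_one_iff y).2 hyE, orderOf_one] at hz
    exact hp.out.ne_one hz.symm
  · intro y hy
    have h1 := (h.ge hy).2
    rw [← map_pow] at h1
    exact (QuotientGroup.eq_one_iff _).1 h1

set_option maxHeartbeats 1000000 in
/-- The key statement: no abelian subgroup of largest order escapes `O_p`. -/
theorem maxAb_le_pCore (hp5 : 5 ≤ p) (hC : centralizer (pCore p X : Set X) ≤ pCore p X)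
    (hq : HasNormalPComplement p (X ⧸ pCore p X)) (T : Sylow p X) (hT : IsCoatom (T : Subgroup X))
    {A₀ : Subgroup X} (hA₀ : MaxAb (T : Subgroup X) A₀) : A₀ ≤ pCore p X := by
  classical
  by_contra hA₀P
  set P := pCore p X with hP
  set R := pResidual p X with hR
  haveI hPn : P.Normal := Cfsg.Agent.Lib.LocalChar.pCore_normal
  have hPT : P ≤ (T : Subgroup X) := Cfsg.Agent.Lib.LocalChar.pCore_le_sylow T
  set π := QuotientGroup.mk' P with hπ
  have hπs : Function.Surjective π := QuotientGroup.mk'_surjective P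
  set M := R.map π with hM
  have hMres : M = pResidual p (X ⧸ P) := Cfsg.Agent.Lib.Transfer.map_pResidual_of_surjective π hπs
  haveI hMn : M.Normal := hMres ▸ inferInstance
  have hMp : ¬ p ∣ Nat.card ↥M := hMres ▸ Cfsg.Agent.Lib.Transfer.hasNormalPComplement_iff.1 hq
  let Tb : Sylow p (X ⧸ P) := T.mapSurjective hπs
  have hTb : (Tb : Subgroup (X ⧸ P)) = (T : Subgroup X).map π := Sylow.coe_mapSurjective hπs T
  have hinf : M ⊓ (Tb : Subgroup (X ⧸ P)) = ⊥ := Cfsg.Agent.Lib.Transfer.inf_eq_bot_of_not_dvd hMp Tb.2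
  have hMT : M ⊔ (Tb : Subgroup (X ⧸ P)) = ⊤ := hMres ▸ Cfsg.Agent.Lib.Transfer.pResidual_sup_sylow Tb
  have hmaxTb : ∀ L : Subgroup (X ⧸ P), (Tb : Subgroup (X ⧸ P)) ≤ L → L = ⊤ ∨ L = Tb := by
    intro L hL
    rw [hTb] at hL
    rcases hT.le_iff.1 (map_le_iff_le_comap.1 hL) with h | h
    · left; rw [← map_comap_eq_self_of_surjective hπs L, h, map_top_of_surjective π hπs]
    · right; rw [hTb, ← map_comap_eq_self_of_surjective hπs L, h]
  -- a subgroup of `M` normalised by the Sylow subgroup is trivial or everything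
  have hirr : ∀ N : Subgroup (X ⧸ P), N ≤ M → (Tb : Subgroup (X ⧸ P)) ≤ normalizer (N : Set (X ⧸ P)) →
      N = ⊥ ∨ M ≤ N := by
    intro N hNM hTN
    rcases hmaxTb ((Tb : Subgroup (X ⧸ P)) ⊔ N) le_sup_left with h | h
    · right
      intro m hm
      have hm' : m ∈ ((Tb : Subgroup (X ⧸ P)) ⊔ N : Subgroup (X ⧸ P)) := h ▸ mem_top m
      rw [← SetLike.mem_coe, coe_mul_of_left_le_normalizer_right _ _ hTN] at hm'
      obtain ⟨s, hs, n, hn, rfl⟩ := hm'
      have hs1 : s ∈ M ⊓ (Tb : Subgroup (X ⧸ P)) := ⟨by simpa using M.mul_mem hm (M.inv_mem (hNM hn)), hs⟩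
      rw [hinf, mem_bot] at hs1
      simpa [hs1] using hn
    · left
      rw [eq_bot_iff, ← hinf]
      exact le_inf hNM (le_sup_right.trans h.le)
  have hRne : ¬ R ≤ P := fun h => hT.1 (by
    rw [eq_top_iff, ← Cfsg.Agent.Lib.Transfer.pResidual_sup_sylow T]
    exact sup_le (h.trans hPT) le_rfl)
  have hMne : M ≠ ⊥ := fun e => hRne fun r hr =>
    (QuotientGroup.eq_one_iff r).1 (mem_bot.1 (e ▸ mem_map_of_mem π hr))
  -- `M` is abelian
  have hMab : ∀ x ∈ M, ∀ y ∈ M, x * y = y * x := by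
    have hcop : (Nat.card ↥(Tb : Subgroup (X ⧸ P))).Coprime (Nat.card ↥M) := by
      obtain ⟨k, hk⟩ := IsPGroup.iff_card.1 Tb.2
      exact hk ▸ (hp.out.coprime_iff_not_dvd.2 hMp).pow_left k
    obtain ⟨q, hq', hqd⟩ := Nat.exists_prime_and_dvd (fun h => hMne (card_eq_one.1 h) : Nat.card ↥M ≠ 1)
    have := Fact.mk hq'
    obtain ⟨Q, hQ⟩ := Cfsg.Agent.Lib.Coprime.exists_invariant_sylow
      (le_top.trans (normalizer_eq_top M).ge : (Tb : Subgroup (X ⧸ P)) ≤ normalizer (M : Set (X ⧸ P))) hcop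
      (Or.inl (by have := Tb.2.isNilpotent; infer_instance)) q
    set Q' := (Q : Subgroup ↥M).map M.subtype with hQ'
    have hQ'p : IsPGroup q ↥Q' := Q.2.map _
    have hQne : Q' ≠ ⊥ := by
      rw [hQ', Ne, Subgroup.map_eq_bot_iff_of_injective _ M.subtype_injective]
      exact Q.ne_bot_of_dvd_card hqd
    set Z := Q' ⊓ centralizer (Q' : Set (X ⧸ P)) with hZ
    rcases hirr Z (inf_le_left.trans (map_subtype_le _))
      (hQ.trans (Cfsg.Agent.Lib.FPF.normalizer_le_normalizer_center Q')) with h | h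
    · exfalso
      have : Nontrivial ↥Q' := (nontrivial_iff_ne_bot _).2 hQne
      obtain ⟨z, hz1⟩ := (nontrivial_iff_exists_ne_one (center ↥Q')).1 hQ'p.center_nontrivial
      refine hz1.2 (Subtype.ext (mem_bot.1 ?_))
      rw [← h]
      exact ⟨z.2, mem_centralizer_iff.2 fun y hy => congrArg Subtype.val (mem_center_iff.1 hz1.1 ⟨y, hy⟩)⟩
    · intro x hx y hy
      exact mem_centralizer_iff.1 (h hy).2 x (h hx).1
  obtain ⟨Y, Y0, hYn, hY0n, hY0Y, hYP, hmin, hY0c, hRY0, hYP', hYR, hYpow⟩ := exists_noncentral_factor hC hRne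
  haveI := hYn
  haveI := hY0n
  -- the module
  set π0 := QuotientGroup.mk' Y0 with hπ0
  have hπ0s : Function.Surjective π0 := QuotientGroup.mk'_surjective Y0
  set W := Y.map π0 with hW
  haveI hWn : W.Normal := hYn.map π0 hπ0s
  letI : CommGroup ↥W :=
    { (inferInstance : Group ↥W) with
      mul_comm := by
        rintro ⟨_, x, hx, rfl⟩ ⟨_, y, hy, rfl⟩
        refine Subtype.ext ?_
        show π0 x * π0 y = π0 y * π0 x
        rw [← commutatorElement_eq_one_iff_mul_comm, ← map_commutatorElement]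
        exact (QuotientGroup.eq_one_iff _).2 (hYP' (commutator_mem_commutator hx (hYP hy))) }
  let ρ : X →* AddMonoid.End (Additive ↥W) :=
    { toFun := fun g => MonoidHom.toAdditive (MulAut.conjNormal (π0 g) : MulAut ↥W).toMonoidHom
      map_one' := by
        refine AddMonoidHom.ext fun w => Additive.toMul.injective (Subtype.ext ?_)
        show π0 1 * _ * (π0 1)⁻¹ = _
        simp
        rfl
      map_mul' := fun g h => by
        refine AddMonoidHom.ext fun w => Additive.toMul.injective (Subtype.ext ?_)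
        show π0 (g * h) * ((Additive.toMul w : ↥W) : X ⧸ Y0) * (π0 (g * h))⁻¹ =
          π0 g * (π0 h * ((Additive.toMul w : ↥W) : X ⧸ Y0) * (π0 h)⁻¹) * (π0 g)⁻¹
        rw [map_mul]; group }
  have hρv : ∀ g (w : Additive ↥W), ((Additive.toMul (ρ g w) : ↥W) : X ⧸ Y0) =
      π0 g * ((Additive.toMul w : ↥W) : X ⧸ Y0) * (π0 g)⁻¹ := fun _ _ => rfl
  let cls : ∀ y ∈ Y, Additive ↥W := fun y hy => Additive.ofMul ⟨π0 y, mem_map_of_mem π0 hy⟩
  have hext : ∀ w w' : Additive ↥W, ((Additive.toMul w : ↥W) : X ⧸ Y0) = (Additive.toMul w' : ↥W) → w = w' :=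
    fun w w' h => Additive.toMul.injective (Subtype.ext h)
  have hρcls : ∀ g y (hy : y ∈ Y), ρ g (cls y hy) = cls (g * y * g⁻¹) (hYn.conj_mem y hy g) := fun g y hy =>
    hext _ _ (by rw [hρv]; show π0 g * π0 y * (π0 g)⁻¹ = π0 (g * y * g⁻¹); simp)
  have hlift : ∀ w : Additive ↥W, ∃ y, ∃ hy : y ∈ Y, cls y hy = w := fun w => by
    obtain ⟨y, hy, e⟩ := (Additive.toMul w).2
    exact ⟨y, hy, hext _ _ e⟩
  have hρP : ∀ x ∈ P, ρ x = 1 := by
    intro x hx
    refine AddMonoidHom.ext fun w => ?_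
    obtain ⟨y, hy, rfl⟩ := hlift w
    refine (hρcls x y hy).trans (hext _ _ ?_)
    show π0 (x * y * x⁻¹) = π0 y
    refine QuotientGroup.eq.2 ?_
    have := hYP' (commutator_mem_commutator (Y.inv_mem hy) hx)
    rw [show (x * y * x⁻¹)⁻¹ * y = (⁅y⁻¹, x⁆)⁻¹ * 1 * 1 * 1 * 1 * (y⁻¹ * y) * 1 * 1 by
      simp only [commutatorElement_def]; group]
    simpa using Y0.inv_mem this
  have hρeq : ∀ g h, π g = π h → ρ g = ρ h := fun g h e => by
    have h1 : h⁻¹ * g ∈ P := QuotientGroup.eq.1 e.symm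
    rw [show g = h * (h⁻¹ * g) by group, map_mul, hρP _ h1, mul_one]
  have hρinv : ∀ g, ρ g * ρ g⁻¹ = 1 ∧ ρ g⁻¹ * ρ g = 1 := fun g =>
    ⟨by rw [← map_mul, mul_inv_cancel, map_one], by rw [← map_mul, inv_mul_cancel, map_one]⟩
  have hnp : ∀ w : Additive ↥W, p • w = 0 := fun w => by
    obtain ⟨y, hy, rfl⟩ := hlift w
    refine hext _ _ ?_
    show ((⟨π0 y, _⟩ : ↥W) ^ p : ↥W).1 = (1 : X ⧸ Y0)
    rw [SubgroupClass.coe_pow, ← map_pow]
    exact (QuotientGroup.eq_one_iff _).2 (hYpow y hy)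
  have hpE : (p : AddMonoid.End (Additive ↥W)) = 0 := AddMonoidHom.ext fun w => hnp w
  -- the commutative ring generated by `R`
  set 𝒬 := Subring.closure (ρ '' (R : Set X)) with h𝒬
  have hRcomm : ∀ r ∈ R, ∀ s ∈ R, ρ r * ρ s = ρ s * ρ r := fun r hr s hs => by
    rw [← map_mul, ← map_mul]
    refine hρeq _ _ ?_
    rw [map_mul, map_mul]
    exact hMab _ (mem_map_of_mem π hr) _ (mem_map_of_mem π hs)
  have h𝒬comm : ∀ f ∈ 𝒬, ∀ g ∈ 𝒬, f * g = g * f := by
    have hc := Subring.isMulCommutative_closure (s := ρ '' (R : Set X))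
      (by rintro _ ⟨r, hr, rfl⟩ _ ⟨s, hs, rfl⟩; exact hRcomm r hr s hs)
    exact fun f hf g hg => congrArg Subtype.val (hc.is_comm.comm (⟨f, hf⟩ : ↥(Subring.closure _)) ⟨g, hg⟩)
  set n := (Nat.card ↥M).totient with hn
  set q := p ^ n with hqdef
  have hn0 : 0 < n := Nat.totient_pos.2 Nat.card_pos
  have hq2 : 2 ≤ q := le_trans hp.out.two_le (Nat.le_self_pow hn0.ne' p)
  have hfrob : ∀ f ∈ 𝒬, f ^ q = f := by
    intro f hf
    rcases subsingleton_or_nontrivial (AddMonoid.End (Additive ↥W)) with _ | _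
    · exact Subsingleton.elim _ _
    haveI : CharP (AddMonoid.End (Additive ↥W)) p := (CharP.charP_iff_prime_eq_zero hp.out).2 hpE
    induction hf using Subring.closure_induction with
    | mem x hx =>
      obtain ⟨r, hr, rfl⟩ := hx
      have h1 : ρ r ^ Nat.card ↥M = 1 := by
        rw [← map_pow, ← map_one ρ]
        refine hρeq _ _ ?_
        rw [map_pow, map_one, ← Subgroup.coe_mk M (π r) (mem_map_of_mem π hr), ← SubgroupClass.coe_pow,
          pow_card_eq_one', OneMemClass.coe_one]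
      have h2 : q ≡ 1 [MOD Nat.card ↥M] := Nat.ModEq.pow_totient (hp.out.coprime_iff_not_dvd.2 hMp)
      rw [pow_eq_pow_mod q h1, h2, ← pow_eq_pow_mod 1 h1, pow_one]
    | zero => exact zero_pow (by omega)
    | one => exact one_pow _
    | add x y hx hy ihx ihy =>
      rw [hqdef, add_pow_char_pow_of_commute p _ (show Commute x y from h𝒬comm x hx y hy), ← hqdef, ihx, ihy]
    | neg x _ ih =>
      have e : -x = (-1 : AddMonoid.End (Additive ↥W)) * x := AddMonoidHom.ext fun w => rfl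
      have e1 : (-1 : AddMonoid.End (Additive ↥W)) * -1 = 1 := AddMonoidHom.ext fun w => neg_neg w
      have e2 : (-1 : AddMonoid.End (Additive ↥W)) ^ q = -1 := by
        obtain ⟨j, hj⟩ : Odd q := (hp.out.odd_of_ne_two (by omega)).pow
        rw [hj, pow_succ, pow_mul, pow_two, e1, one_pow, one_mul]
      have e3 : Commute (-1 : AddMonoid.End (Additive ↥W)) x := AddMonoidHom.ext fun w => (map_neg x w).symm
      rw [e, e3.mul_pow, e2, ih]
    | mul x y hx hy ihx ihy => rw [(show Commute x y from h𝒬comm x hx y hy).mul_pow, ihx, ihy]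
  have hsq𝒬 : ∀ f ∈ 𝒬, ∀ w, (f * f) w = 0 → f w = 0 := by
    intro f hf w hw
    rw [← hfrob f hf, show q = (q - 2) + 1 + 1 by omega, pow_succ, pow_succ, mul_assoc]
    show (f ^ (q - 2)) ((f * f) w) = 0
    rw [hw, map_zero]
  -- a vector fixed by the Sylow subgroup
  obtain ⟨v, hv0, hv⟩ : ∃ v : Additive ↥W, v ≠ 0 ∧ ∀ t ∈ (T : Subgroup X), ρ t v = v := by
    letI : MulAction ↥(T : Subgroup X) (Additive ↥W) :=
      { smul := fun t w => ρ t w
        one_smul := fun w => by show ρ ((1 : ↥(T : Subgroup X)) : X) w = w; simp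
        mul_smul := fun a b w => by
          show ρ ((a * b : ↥(T : Subgroup X)) : X) w = ρ (a : X) (ρ (b : X) w)
          rw [Subgroup.coe_mul, map_mul]; rfl }
    have hWne : W ≠ ⊥ := fun e => by
      rw [hW, Subgroup.map_eq_bot_iff, hπ0, QuotientGroup.ker_mk'] at e
      exact hY0Y.not_ge e
    have hpW : p ∣ Nat.card (Additive ↥W) := by
      obtain ⟨k, hk⟩ := IsPGroup.iff_card.1 ((Cfsg.Agent.Lib.LocalChar.pCore_isPGroup.to_le hYP).map π0)
      show p ∣ Nat.card ↥W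
      rw [hk]
      exact dvd_pow_self p fun h0 => hWne (by rw [h0, pow_zero] at hk; exact Subgroup.eq_bot_of_card_eq _ hk)
    haveI : Finite (Additive ↥W) := inferInstanceAs (Finite ↥W)
    obtain ⟨v, hv, hne⟩ := T.2.exists_fixed_point_of_prime_dvd_card_of_fixed_point (Additive ↥W) hpW
      (a := (0 : Additive ↥W)) (fun t => map_zero (ρ (t : X)))
    exact ⟨v, Ne.symm hne, fun t ht => hv ⟨t, ht⟩⟩
  -- the symmetric ring
  set gen : Set (AddMonoid.End (Additive ↥W)) := (fun c => ρ c + ρ c⁻¹) '' (R : Set X) with hgen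
  set B := Subring.closure gen with hB
  have hB𝒬 : B ≤ 𝒬 := Subring.closure_le.2 (by
    rintro _ ⟨c, hc, rfl⟩
    exact 𝒬.add_mem (Subring.subset_closure ⟨c, hc, rfl⟩) (Subring.subset_closure ⟨c⁻¹, R.inv_mem hc, rfl⟩))
  -- conjugation acts on both rings
  let σ0 : ∀ _ : X, AddMonoid.End (Additive ↥W) →+* AddMonoid.End (Additive ↥W) := fun g =>
    { toFun := fun f => ρ g * f * ρ g⁻¹
      map_one' := by rw [mul_one, (hρinv g).1]
      map_mul' := fun f f' => by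
        calc ρ g * (f * f') * ρ g⁻¹ = ρ g * f * (ρ g⁻¹ * ρ g) * f' * ρ g⁻¹ := by
              rw [(hρinv g).2, mul_one]; simp only [mul_assoc]
          _ = _ := by simp only [mul_assoc]
      map_zero' := by simp
      map_add' := fun f f' => by rw [mul_add, add_mul] }
  have hσρ : ∀ g c, σ0 g (ρ c) = ρ (g * c * g⁻¹) := fun g c => by
    show ρ g * ρ c * ρ g⁻¹ = _
    rw [← map_mul, ← map_mul]
  have hσB : ∀ g, ∀ f ∈ B, σ0 g f ∈ B := by
    intro g f hf
    have h1 : B.map (σ0 g) ≤ B := by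
      rw [hB, RingHom.map_closure]
      refine Subring.closure_le.2 ?_
      rintro _ ⟨_, ⟨c, hc, rfl⟩, rfl⟩
      refine Subring.subset_closure ⟨g * c * g⁻¹, (inferInstance : R.Normal).conj_mem c hc g, ?_⟩
      show ρ (g * c * g⁻¹) + ρ (g * c * g⁻¹)⁻¹ = σ0 g (ρ c + ρ c⁻¹)
      rw [map_add, hσρ, hσρ, show (g * c * g⁻¹)⁻¹ = g * c⁻¹ * g⁻¹ by group]
    exact h1 ⟨f, hf, rfl⟩
  have hσv : ∀ t ∈ (T : Subgroup X), ∀ f : AddMonoid.End (Additive ↥W), σ0 t f v = ρ t (f v) := fun t ht f => by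
    show ρ t (f (ρ t⁻¹ v)) = _
    rw [hv _ ((T : Subgroup X).inv_mem ht)]
  -- the form
  have hlf : ∀ w : Additive ↥W, ∃ y, ∃ hy : y ∈ Y, cls y hy = w := hlift
  choose lf hlfY hlf using hlf
  let ω : Additive ↥W → Additive ↥W → X := fun w w' => ⁅lf w, lf w'⁆
  have hYc : ∀ z ∈ Y0, ∀ y ∈ Y, Commute y z := fun z hz y hy => mem_centralizer_iff.1 (hY0c hz) y hy
  have hc0 : ∀ a ∈ Y, ∀ b ∈ Y, ⁅a, b⁆ ∈ Y0 := fun a ha b hb => hYP' (commutator_mem_commutator ha (hYP hb))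
  have hmulr : ∀ a ∈ Y, ∀ c ∈ Y, ∀ d ∈ Y, ⁅a, c * d⁆ = ⁅a, c⁆ * ⁅a, d⁆ := fun a ha c hc d hd => by
    have h1 : ⁅a, c * d⁆ = ⁅a, c⁆ * (c * ⁅a, d⁆ * c⁻¹) := by simp only [commutatorElement_def]; group
    rw [h1, (hYc _ (hc0 a ha d hd) c hc).eq, mul_inv_cancel_right]
  have hmull : ∀ a ∈ Y, ∀ c ∈ Y, ∀ d ∈ Y, ⁅a * c, d⁆ = ⁅a, d⁆ * ⁅c, d⁆ := fun a ha c hc d hd => by
    have h1 : ⁅a * c, d⁆ = (a * ⁅c, d⁆ * a⁻¹) * ⁅a, d⁆ := by simp only [commutatorElement_def]; group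
    rw [h1, (hYc _ (hc0 c hc d hd) a ha).eq, mul_inv_cancel_right,
      ((hYc _ (hc0 a ha d hd) _ (hY0Y.le (hc0 c hc d hd)))).eq]
  have hω : ∀ w w' a b, ∀ (ha : a ∈ Y) (hb : b ∈ Y), cls a ha = w → cls b hb = w' → ω w w' = ⁅a, b⁆ := by
    intro w w' a b ha hb ea eb
    have hz : a⁻¹ * lf w ∈ Y0 := QuotientGroup.eq.1 (show π0 a = π0 (lf w) from
      congrArg (fun x : Additive ↥W => ((Additive.toMul x : ↥W) : X ⧸ Y0)) (ea.trans (hlf w).symm))
    have hz' : b⁻¹ * lf w' ∈ Y0 := QuotientGroup.eq.1 (show π0 b = π0 (lf w') from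
      congrArg (fun x : Additive ↥W => ((Additive.toMul x : ↥W) : X ⧸ Y0)) (eb.trans (hlf w').symm))
    show ⁅lf w, lf w'⁆ = _
    rw [show lf w = a * (a⁻¹ * lf w) by group, show lf w' = b * (b⁻¹ * lf w') by group,
      hmull a ha _ (hY0Y.le hz) _ (Y.mul_mem hb (hY0Y.le hz')), hmulr a ha b hb _ (hY0Y.le hz'),
      commutatorElement_eq_one_iff_commute.2 ((hYc _ hz _ (Y.mul_mem hb (hY0Y.le hz'))).symm),
      commutatorElement_eq_one_iff_commute.2 (hYc _ hz' a ha), mul_one, mul_one]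
  have hcls_add : ∀ a b (ha : a ∈ Y) (hb : b ∈ Y), cls a ha + cls b hb = cls (a * b) (Y.mul_mem ha hb) :=
    fun a b ha hb => hext _ _ (map_mul π0 a b).symm
  have hωadd : ∀ w w' u, ω (w + w') u = ω w u * ω w' u := fun w w' u => by
    rw [hω (w + w') u _ (lf u) (Y.mul_mem (hlfY w) (hlfY w')) (hlfY u) (by rw [← hcls_add _ _ (hlfY _) (hlfY _), hlf, hlf]) (hlf u),
      hmull _ (hlfY w) _ (hlfY w') _ (hlfY u)]
  have hωadd' : ∀ u w w', ω u (w + w') = ω u w * ω u w' := fun u w w' => by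
    rw [hω u (w + w') (lf u) _ (hlfY u) (Y.mul_mem (hlfY w) (hlfY w')) (hlf u) (by rw [← hcls_add _ _ (hlfY _) (hlfY _), hlf, hlf]),
      hmulr _ (hlfY u) _ (hlfY w) _ (hlfY w')]
  have hω0 : ∀ u, ω 0 u = 1 := fun u => by
    have := hωadd 0 0 u
    rw [zero_add] at this
    exact mul_left_cancel (this.symm.trans (mul_one _).symm)
  have hω0' : ∀ u, ω u 0 = 1 := fun u => by
    have := hωadd' u 0 0
    rw [zero_add] at this
    exact mul_left_cancel (this.symm.trans (mul_one _).symm)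
  have hωneg : ∀ w u, ω (-w) u = (ω w u)⁻¹ := fun w u => by
    refine eq_inv_of_mul_eq_one_left ?_
    rw [← hωadd, neg_add_cancel, hω0]
  have hωneg' : ∀ w u, ω u (-w) = (ω u w)⁻¹ := fun w u => by
    refine eq_inv_of_mul_eq_one_left ?_
    rw [← hωadd', neg_add_cancel, hω0']
  have hsym : ∀ f ∈ B, ∀ w u, ω (f w) u = ω w (f u) := by
    intro f hf
    induction hf using Subring.closure_induction with
    | mem x hx =>
      obtain ⟨c, hc, rfl⟩ := hx
      have hinvar : ∀ c ∈ R, ∀ w u, ω (ρ c w) u = ω w (ρ c⁻¹ u) := by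
        intro c hc w u
        rw [hω (ρ c w) u (c * lf w * c⁻¹) (lf u) (hYn.conj_mem _ (hlfY w) c) (hlfY u)
          (by rw [← hρcls _ _ (hlfY _), hlf]) (hlf u),
          hω w (ρ c⁻¹ u) (lf w) (c⁻¹ * lf u * c⁻¹⁻¹) (hlfY w) (hYn.conj_mem _ (hlfY u) c⁻¹) (hlf w)
          (by rw [← hρcls _ _ (hlfY _), hlf])]
        have hz := hc0 _ (hlfY w) _ (hYn.conj_mem _ (hlfY u) c⁻¹)
        have h1 : c * ⁅lf w, c⁻¹ * lf u * c⁻¹⁻¹⁆ * c⁻¹ = ⁅lf w, c⁻¹ * lf u * c⁻¹⁻¹⁆ := by
          rw [← mem_centralizer_iff.1 (hRY0 hc) _ hz, mul_inv_cancel_right]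
        rw [← h1]
        simp only [commutatorElement_def]; group
      intro w u
      show ω (ρ c w + ρ c⁻¹ w) u = ω w (ρ c u + ρ c⁻¹ u)
      rw [hωadd, hωadd', hinvar c hc, hinvar c⁻¹ (R.inv_mem hc), inv_inv]
      exact ((hYc _ (hc0 _ (hlfY _) _ (hlfY _)) _ (hY0Y.le (hc0 _ (hlfY _) _ (hlfY _))))).eq
    | zero => intro w u; exact (hω0 u).trans (hω0' w).symm
    | one => intro w u; rfl
    | add x y _ _ ihx ihy =>
      intro w u
      show ω (x w + y w) u = ω w (x u + y u)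
      rw [hωadd, hωadd', ihx, ihy]
    | neg x _ ih =>
      intro w u
      show ω (-(x w)) u = ω w (-(x u))
      rw [hωneg, hωneg', ih]
    | mul x y hx hy ihx ihy =>
      intro w u
      have e : x * y = y * x := h𝒬comm x (hB𝒬 hx) y (hB𝒬 hy)
      show ω (x (y w)) u = ω w ((x * y) u)
      rw [ihx, ihy, e]; rfl
  -- the abelian subgroup
  let E : Subgroup X :=
    { carrier := {y | ∃ hy : y ∈ Y, ∃ f ∈ B, cls y hy = f v}
      one_mem' := ⟨Y.one_mem, 0, B.zero_mem, hext _ _ (map_one π0)⟩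
      mul_mem' := fun {a b} ⟨ha, f, hf, ea⟩ ⟨hb, g, hg, eb⟩ =>
        ⟨Y.mul_mem ha hb, f + g, B.add_mem hf hg, by rw [← hcls_add a b ha hb, ea, eb]; rfl⟩
      inv_mem' := fun {a} ⟨ha, f, hf, ea⟩ => ⟨Y.inv_mem ha, -f, B.neg_mem hf, by
        show _ = -(f v)
        rw [← ea]; exact hext _ _ (map_inv π0 a)⟩ }
  have hEY : E ≤ Y := fun y hy => hy.1
  have hET : E ≤ (T : Subgroup X) := hEY.trans (hYP.trans hPT)
  have hEab : ∀ x ∈ E, ∀ y ∈ E, x * y = y * x := by
    rintro a ⟨ha, f, hf, ea⟩ b ⟨hb, g, hg, eb⟩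
    have h1 : ⁅a, b⁆ = ⁅b, a⁆ := by
      rw [← hω (f v) (g v) a b ha hb ea eb, ← hω (g v) (f v) b a hb ha eb ea, hsym f hf, hsym g hg]
      refine congrArg (ω v) ?_
      show (f * g) v = (g * f) v
      rw [h𝒬comm f (hB𝒬 hf) g (hB𝒬 hg)]
    have hz := hc0 a ha b hb
    have h2 : ⁅a, b⁆ ^ 2 = 1 := by
      rw [pow_two]
      nth_rewrite 2 [h1]
      rw [← commutatorElement_inv b a, inv_mul_cancel]
    have hp2 : ⁅a, b⁆ ^ p = 1 := by
      have hk : ∀ k : ℕ, ⁅a, b⁆ ^ k = ⁅a ^ k, b⁆ := by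
        intro k
        induction k with
        | zero => simp
        | succ k ih => rw [pow_succ, ih, pow_succ, hmull _ (Y.pow_mem ha k) a ha b hb]
      rw [hk, commutatorElement_eq_one_iff_commute]
      exact (hYc _ (hYpow a ha) b hb).symm
    rw [← commutatorElement_eq_one_iff_mul_comm, ← orderOf_eq_one_iff]
    exact Nat.eq_one_of_dvd_coprimes
      ((Nat.coprime_primes Nat.prime_two hp.out).2 (by omega)) (orderOf_dvd_of_pow_eq_one h2)
      (orderOf_dvd_of_pow_eq_one hp2)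
  have hconjE : ∀ t ∈ (T : Subgroup X), ∀ y ∈ E, t * y * t⁻¹ ∈ E := by
    rintro t ht y ⟨hy, f, hf, e⟩
    exact ⟨hYn.conj_mem y hy t, σ0 t f, hσB t f hf, by rw [hσv t ht, ← e, hρcls t y hy]⟩
  have hTE : (T : Subgroup X) ≤ normalizer (E : Set X) := fun t ht => mem_normalizer_iff.2 fun y =>
    ⟨hconjE t ht y, fun h => by
      have := hconjE t⁻¹ ((T : Subgroup X).inv_mem ht) _ h
      simpa [mul_assoc] using this⟩
  have hEP : ⁅E, P⁆ ≤ Y0 := (commutator_mono hEY le_rfl).trans hYP'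
  obtain ⟨A, ⟨hA, hAP⟩, hAmax⟩ := Set.exists_max_image {A : Subgroup X | MaxAb (T : Subgroup X) A ∧ ¬ A ≤ P}
    (fun A => Nat.card ↥(A ⊓ E : Subgroup X)) (Set.toFinite _) ⟨A₀, hA₀, hA₀P⟩
  obtain ⟨a, ha, haP⟩ := SetLike.not_le_iff_exists.1 hAP
  have haT : a ∈ (T : Subgroup X) := hA.le ha
  -- cubic action on the orbit of `v`
  have hcub : ∀ f ∈ B, (σ0 a (σ0 a (σ0 a f)) - 3 * σ0 a (σ0 a f) + 3 * σ0 a f - f) v = 0 := by
    intro f hf
    obtain ⟨y, hy, hyv⟩ := hlift (f v)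
    have hyE : y ∈ E := ⟨hy, f, hf, hyv⟩
    have h := cubic_on_abelian T.2 hET hEab hTE (le_top.trans (normalizer_eq_top Y0).ge) hEP hA
      (fun C hC hCP => hAmax C ⟨hC, hCP⟩) hyE ha
    have hD : ∀ z (hz : z ∈ Y), ∃ hz' : ⁅z, a⁆ ∈ Y, cls ⁅z, a⁆ hz' = cls z hz - ρ a (cls z hz) := fun z hz => by
      refine ⟨commutator_le_left Y ⊤ (commutator_mem_commutator hz (mem_top a)), hext _ _ ?_⟩
      rw [toMul_sub, div_eq_mul_inv, Subgroup.coe_mul, Subgroup.coe_inv, hρv]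
      show π0 ⁅z, a⁆ = π0 z * (π0 a * π0 z * (π0 a)⁻¹)⁻¹
      rw [map_commutatorElement, commutatorElement_def]; group
    obtain ⟨h1, e1⟩ := hD y hy
    obtain ⟨h2, e2⟩ := hD _ h1
    obtain ⟨h3, e3⟩ := hD _ h2
    have h0 : cls _ h3 = 0 := hext _ _ ((QuotientGroup.eq_one_iff _).2 h)
    rw [e3, e2, e1, hyv, ← hσv a haT f] at h0
    simp only [map_sub, ← hσv a haT] at h0
    have e : (σ0 a (σ0 a (σ0 a f)) - 3 * σ0 a (σ0 a f) + 3 * σ0 a f - f) v =
        σ0 a (σ0 a (σ0 a f)) v - 3 • σ0 a (σ0 a f) v + 3 • σ0 a f v - f v := rfl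
    rw [e, ← neg_eq_zero, ← h0]
    abel
  -- triviality of `a` on the symmetric ring
  letI : CommRing ↥B :=
    { (inferInstance : Ring ↥B) with
      mul_comm := fun f g => Subtype.ext (h𝒬comm f (hB𝒬 f.2) g (hB𝒬 g.2)) }
  let Z : Ideal ↥B :=
    { carrier := {f | (f : AddMonoid.End (Additive ↥W)) v = 0}
      zero_mem' := rfl
      add_mem' := fun {f g} hf hg => by
        show (f : AddMonoid.End (Additive ↥W)) v + (g : AddMonoid.End (Additive ↥W)) v = 0
        rw [hf, hg, add_zero]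
      smul_mem' := fun g f hf => by
        show (g : AddMonoid.End (Additive ↥W)) ((f : AddMonoid.End (Additive ↥W)) v) = 0
        rw [hf, map_zero] }
  let σ : ↥B →+* ↥B := ((σ0 a).comp B.subtype).codRestrict B fun f => hσB a f f.2
  have hkey : ∀ f : ↥B, σ f - f ∈ Z := by
    refine endo_sub_mem_of_cubic Z σ ?_ (fun f => hcub f f.2) (fun f hf => hsq𝒬 _ (hB𝒬 f.2) v hf) ?_
    · intro f hf
      show σ0 a (f : AddMonoid.End (Additive ↥W)) v = 0
      rw [hσv a haT, (show (f : AddMonoid.End (Additive ↥W)) v = 0 from hf), map_zero]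
    · intro f hf
      show (f : AddMonoid.End (Additive ↥W)) v = 0
      have h6 : (6 : ℕ) • (f : AddMonoid.End (Additive ↥W)) v = 0 := hf
      rw [← AddMonoid.addOrderOf_eq_one_iff]
      have hcop : Nat.Coprime 6 p := (hp.out.coprime_iff_not_dvd.2 fun hd => by
        rcases hp.out.dvd_mul.1 (show p ∣ 2 * 3 from hd) with h | h
        · exact absurd (Nat.le_of_dvd (by norm_num) h) (by omega)
        · exact absurd (Nat.le_of_dvd (by norm_num) h) (by omega)).symm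
      exact Nat.eq_one_of_dvd_coprimes hcop (addOrderOf_dvd_iff_nsmul_eq_zero.2 h6)
        (addOrderOf_dvd_iff_nsmul_eq_zero.2 (hnp _))
  -- triviality of `a` on `R` modulo the annihilator of `v`
  letI : CommRing ↥𝒬 :=
    { (inferInstance : Ring ↥𝒬) with
      mul_comm := fun f g => Subtype.ext (h𝒬comm f f.2 g g.2) }
  let Z' : Ideal ↥𝒬 :=
    { carrier := {f | (f : AddMonoid.End (Additive ↥W)) v = 0}
      zero_mem' := rfl
      add_mem' := fun {f g} hf hg => by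
        show (f : AddMonoid.End (Additive ↥W)) v + (g : AddMonoid.End (Additive ↥W)) v = 0
        rw [hf, hg, add_zero]
      smul_mem' := fun g f hf => by
        show (g : AddMonoid.End (Additive ↥W)) ((f : AddMonoid.End (Additive ↥W)) v) = 0
        rw [hf, map_zero] }
  have hrad : Z'.radical ≤ Z' := by
    intro f hf
    obtain ⟨k, hk⟩ := Ideal.mem_radical_iff.1 hf
    have hfq : ∀ j : ℕ, f ^ q ^ j = f := by
      intro j
      induction j with
      | zero => simp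
      | succ j ih => rw [pow_succ, pow_mul, ih]; exact Subtype.ext (by simpa using hfrob _ f.2)
    rw [← hfq k, ← Nat.sub_add_cancel ((Nat.lt_pow_self (by omega : 1 < q)).le : k ≤ q ^ k), pow_add]
    exact Z'.mul_mem_left _ hk
  let χ : ↥R →* ↥𝒬 :=
    { toFun := fun r => ⟨ρ (r : X), Subring.subset_closure ⟨(r : X), r.2, rfl⟩⟩
      map_one' := Subtype.ext (by simp)
      map_mul' := fun r s => Subtype.ext (map_mul ρ (r : X) (s : X)) }
  let α : ↥R →* ↥R := (MulAut.conjNormal a : MulAut ↥R).toMonoidHom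
  have hαv : ∀ c : ↥R, ((α c : ↥R) : X) = a * c * a⁻¹ := fun c => rfl
  have hdiff : ∀ c : ↥R, χ (α c) + χ (α c)⁻¹ - (χ c + χ c⁻¹) ∈ Z' := by
    intro c
    have h := hkey ⟨_, Subring.subset_closure ⟨(c : X), c.2, rfl⟩⟩
    show ((ρ (α c : X) + ρ (((α c)⁻¹ : ↥R) : X)) - (ρ (c : X) + ρ ((c⁻¹ : ↥R) : X))) v = 0
    have h' : (σ0 a (ρ (c : X) + ρ (c : X)⁻¹) - (ρ (c : X) + ρ (c : X)⁻¹)) v = 0 := h
    rw [map_add, hσρ, hσρ] at h'
    simpa [hαv, mul_assoc] using h'
  have hfix : ∀ c : ↥R, χ (α c) - χ c ∈ Z' := by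
    intro c
    refine hrad ?_
    rw [Ideal.radical_eq_sInf, Ideal.mem_sInf]
    intro J hJ
    obtain ⟨hZJ, hJp⟩ := hJ
    haveI := hJp
    let φ := Ideal.Quotient.mk J
    let ψ : ↥R →* (↥𝒬 ⧸ J)ˣ := ((φ : ↥𝒬 →* ↥𝒬 ⧸ J).comp χ).toHomUnits
    have hψ : ∀ e : ↥R, ((ψ e : (↥𝒬 ⧸ J)ˣ) : ↥𝒬 ⧸ J) = φ (χ e) := fun e => rfl
    obtain ⟨o, hord⟩ := T.2 ⟨a, haT⟩
    have ho : a ^ p ^ o = 1 := congrArg Subtype.val hord
    have hit : ∀ (i : ℕ) (d : ↥R), ((α^[i] d : ↥R) : X) = a ^ i * d * (a ^ i)⁻¹ := by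
      intro i
      induction i with
      | zero => intro d; simp
      | succ i ih => intro d; rw [Function.iterate_succ_apply', hαv, ih, pow_succ']; group
    have h := hom_comp_eq_of_sum_inv ψ α (o := p ^ o) ((hp.out.odd_of_ne_two (by omega)).pow)
      (fun d => Subtype.ext (by rw [hit, ho]; simp)) (fun d => by
        rw [← map_inv ψ (α d), ← map_inv ψ d, hψ, hψ, hψ, hψ, ← φ.map_add, ← φ.map_add]
        exact Ideal.Quotient.eq.2 (hZJ (hdiff d))) c
    exact Ideal.Quotient.eq.1 (congrArg Units.val h)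
  -- the stabiliser of `v` in `R`
  let Kv : Subgroup X :=
    { carrier := {r | r ∈ R ∧ ρ r v = v}
      one_mem' := ⟨R.one_mem, by simp⟩
      mul_mem' := fun {r s} hr hs => ⟨R.mul_mem hr.1 hs.1, by
        rw [map_mul]; show ρ r (ρ s v) = v; rw [hs.2, hr.2]⟩
      inv_mem' := fun {r} hr => ⟨R.inv_mem hr.1, by
        conv_lhs => rw [← hr.2]
        show (ρ r⁻¹ * ρ r) v = v
        rw [(hρinv r).2]; rfl⟩ }
  have hconjK : ∀ t ∈ (T : Subgroup X), ∀ r ∈ Kv, t * r * t⁻¹ ∈ Kv := fun t ht r hr =>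
    ⟨(inferInstance : R.Normal).conj_mem r hr.1 t, by
      rw [map_mul, map_mul]
      show ρ t (ρ r (ρ t⁻¹ v)) = v
      rw [hv _ ((T : Subgroup X).inv_mem ht), hr.2, hv t ht]⟩
  have hKn : (Tb : Subgroup (X ⧸ P)) ≤ normalizer ((Kv.map π : Subgroup (X ⧸ P)) : Set (X ⧸ P)) := by
    rw [hTb]
    refine le_trans (map_mono fun t ht => mem_normalizer_iff.2 fun r => ?_) (le_normalizer_map π)
    exact ⟨hconjK t ht r, fun h => by
      simpa [mul_assoc] using hconjK t⁻¹ ((T : Subgroup X).inv_mem ht) _ h⟩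
  rcases hirr (Kv.map π) (map_mono fun r hr => hr.1) hKn with hbot | hall
  · -- `a` centralises `M`
    have hac : ∀ μ ∈ M, Commute (π a) μ := by
      rintro _ ⟨c, hc, rfl⟩
      have h1 : (ρ (a * c * a⁻¹) - ρ c) v = 0 := hfix ⟨c, hc⟩
      have h2 : c⁻¹ * (a * c * a⁻¹) ∈ Kv := ⟨R.mul_mem (R.inv_mem hc)
        ((inferInstance : R.Normal).conj_mem c hc a), by
        rw [map_mul]
        show ρ c⁻¹ (ρ (a * c * a⁻¹) v) = v
        rw [sub_eq_zero.1 (show ρ (a * c * a⁻¹) v - ρ c v = 0 from h1)]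
        show (ρ c⁻¹ * ρ c) v = v
        rw [(hρinv c).2]; rfl⟩
      have h3 := mem_bot.1 (hbot ▸ mem_map_of_mem π h2)
      rw [map_mul, map_inv, inv_mul_eq_one, map_mul, map_mul, map_inv, eq_mul_inv_iff_mul_eq] at h3
      exact h3.symm
    set D := (Tb : Subgroup (X ⧸ P)) ⊓ centralizer (M : Set (X ⧸ P)) with hD
    have hDn : D.Normal := by
      rw [← normalizer_eq_top_iff, eq_top_iff, ← hMT]
      refine sup_le (fun x hx => centralizer_le_normalizer _ (mem_centralizer_iff.mpr fun d hd => ?_)) ?_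
      · exact (mem_centralizer_iff.mp hd.2 x hx).symm
      · exact (le_inf le_normalizer (le_top.trans (normalizer_eq_top _).ge)).trans
          inf_normalizer_le_normalizer_inf
    have hDb : D.comap π ≤ P := Cfsg.Agent.Lib.LocalChar.le_pCore (hDn.comap π)
      ((Tb.2.to_le inf_le_left).comap_of_ker_isPGroup π
        (by rw [QuotientGroup.ker_mk']; exact Cfsg.Agent.Lib.LocalChar.pCore_isPGroup))
    exact haP (hDb ⟨hTb ▸ mem_map_of_mem π haT, mem_centralizer_iff.2 fun μ hμ => ((hac μ hμ).symm).eq⟩)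
  · -- everything fixes `v`
    have hRv : ∀ r ∈ R, ρ r v = v := fun r hr => by
      obtain ⟨k, hk, e⟩ := hall (mem_map_of_mem π hr)
      rw [← hρeq k r e, hk.2]
    let St : Subgroup X :=
      { carrier := {g | ρ g v = v}
        one_mem' := by simp
        mul_mem' := fun {g h} (hg : ρ g v = v) (hh : ρ h v = v) => by
          show ρ (g * h) v = v
          rw [map_mul]; show ρ g (ρ h v) = v; rw [hh, hg]
        inv_mem' := fun {g} (hg : ρ g v = v) => by
          show ρ g⁻¹ v = v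
          conv_lhs => rw [← hg]
          show (ρ g⁻¹ * ρ g) v = v
          rw [(hρinv g).2]; rfl }
    have hSt : ∀ g, ρ g v = v := fun g => by
      have h : (⊤ : Subgroup X) ≤ St := by
        rw [← Cfsg.Agent.Lib.Transfer.pResidual_sup_sylow T]; exact sup_le hRv hv
      exact h (mem_top g)
    obtain ⟨y, hy, hyv⟩ := hlift v
    let N : Subgroup X := Y ⊓ (center (X ⧸ Y0)).comap π0
    have hN : N.Normal := inferInstance
    rcases hmin N hN (le_inf hY0Y.le fun z hz => by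
        rw [mem_comap, show π0 z = 1 from (QuotientGroup.eq_one_iff z).2 hz]; exact one_mem _) inf_le_left with h | h
    · refine hv0 ?_
      have hyN : y ∈ N := ⟨hy, mem_center_iff.2 fun g => by
        obtain ⟨g, rfl⟩ := hπ0s g
        have e := congrArg (fun w : Additive ↥W => ((Additive.toMul w : ↥W) : X ⧸ Y0)) (hSt g)
        rw [← hyv] at e
        simp only [hρv] at e
        exact mul_inv_eq_iff_eq_mul.1 e⟩
      rw [h] at hyN
      rw [← hyv]
      exact hext _ _ ((QuotientGroup.eq_one_iff y).2 hyN)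
    · refine hYR (Subgroup.commutator_le.2 fun z hz r _ => (QuotientGroup.eq_one_iff _).1 ?_)
      show π0 ⁅z, r⁆ = 1
      rw [map_commutatorElement, commutatorElement_eq_one_iff_mul_comm]
      exact (mem_center_iff.1 (h.ge hz).2 (π0 r)).symm

/-- The abelian Thompson subgroup is the join of the abelian subgroups of largest order. -/
theorem thompsonSubgroupAOf_le_of_forall {T K : Subgroup X} (h : ∀ A, MaxAb T A → A ≤ K) :
    Cfsg.thompsonSubgroupAOf T ≤ K := by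
  rw [Cfsg.thompsonSubgroupAOf, map_le_iff_le_comap]
  refine sSup_le fun A hA => map_le_iff_le_comap.1 (h _ ⟨map_subtype_le A, ?_, fun B hB hBc => ?_⟩)
  · rintro _ ⟨a, ha, rfl⟩ _ ⟨b, hb, rfl⟩
    exact congrArg Subtype.val (congrArg Subtype.val (hA.1.is_comm.comm ⟨a, ha⟩ ⟨b, hb⟩))
  · have h1 := hA.2 (B.subgroupOf T) ⟨⟨fun a b => Subtype.ext (Subtype.ext (hBc _ a.2 _ b.2))⟩⟩
    rwa [Nat.card_congr (subgroupOfEquivOfLe hB).toEquiv, Nat.card_congr (equivMapOfInjective A T.subtype T.subtype_injective).toEquiv] at h1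

theorem MaxAb.le_thompsonSubgroupAOf {T A : Subgroup X} (hA : MaxAb T A) : A ≤ Cfsg.thompsonSubgroupAOf T := by
  rw [← inf_eq_left.2 hA.le, ← subgroupOf_map_subtype, Cfsg.thompsonSubgroupAOf]
  refine map_mono (le_sSup ⟨⟨⟨fun a b => Subtype.ext (Subtype.ext (hA.comm _ a.2 _ b.2))⟩⟩, fun B hB => ?_⟩)
  rw [Nat.card_congr (subgroupOfEquivOfLe hA.le).toEquiv, Nat.card_congr (equivMapOfInjective B T.subtype T.subtype_injective).toEquiv]
  refine hA.max _ (map_subtype_le B) ?_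
  rintro _ ⟨a, ha, rfl⟩ _ ⟨b, hb, rfl⟩
  exact congrArg Subtype.val (congrArg Subtype.val (hB.is_comm.comm ⟨a, ha⟩ ⟨b, hb⟩))

theorem thompsonSubgroupAOf_normal (hp5 : 5 ≤ p) (hC : centralizer (pCore p X : Set X) ≤ pCore p X)
    (hq : HasNormalPComplement p (X ⧸ pCore p X)) (T : Sylow p X) (hT : IsCoatom (T : Subgroup X)) :
    (Cfsg.thompsonSubgroupAOf (T : Subgroup X)).Normal := by
  set J := Cfsg.thompsonSubgroupAOf (T : Subgroup X)
  refine ⟨fun x hx g => ?_⟩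
  suffices h : J ≤ J.comap (MulAut.conj g).toMonoidHom from h hx
  refine thompsonSubgroupAOf_le_of_forall fun A hA => map_le_iff_le_comap.1 ?_
  refine MaxAb.le_thompsonSubgroupAOf ⟨?_, ?_, fun B hB hBc => ?_⟩
  · rintro _ ⟨a, ha, rfl⟩
    exact Cfsg.Agent.Lib.LocalChar.pCore_le_sylow T
      ((Cfsg.Agent.Lib.LocalChar.pCore_normal (p := p)).conj_mem a (maxAb_le_pCore hp5 hC hq T hT hA ha) g)
  · rintro _ ⟨a, ha, rfl⟩ _ ⟨b, hb, rfl⟩
    rw [← map_mul, hA.comm a ha b hb, map_mul]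
  · rw [card_map_of_injective (MulAut.conj g).injective]
    exact hA.max B hB hBc

/-- The abelian Thompson subgroup is a characteristic functor. -/
theorem isCharPFunctor_thompsonA : Cfsg.IsCharPFunctor.{u} p @Cfsg.thompsonSubgroupA := by
  refine ⟨fun Q _ _ hQ hn e => ?_, fun Q R _ _ _ _ φ => Cfsg.Agent.Lib.Thompson.map_thompsonSubgroupA φ⟩
  obtain ⟨A, hA⟩ := Cfsg.Agent.Lib.Thompson.exists_maxAbelian (G := Q)
  obtain ⟨x, hx⟩ := exists_ne (1 : Q)
  have hA1 : A = ⊥ := le_bot_iff.1 (e ▸ le_sSup hA)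
  have h1 := hA.2 (zpowers x) inferInstance
  rw [hA1, card_bot, Nat.card_zpowers] at h1
  exact hx (orderOf_eq_one_iff.1 (le_antisymm h1 (orderOf_pos x)))

end Cfsg.Agent.Lib.KInf
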