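import Mathlib
import Cfsg.Agent.Lib.KInf.Stable
import Cfsg.Agent.Lib.KInf.NoEngel
import Cfsg.Agent.Lib.KInf.ThompsonFive
import Cfsg.Agent.Lib.KInf.TwistedReplace

/-! For `p ≥ 7` the abelian Thompson subgroup controls transfer in every finite group. -/

set_option autoImplicit false

open scoped commutatorElement
open Subgroup

namespace Cfsg.Agent.Lib.KInf

universe u

open Cfsg

variable {X : Type u} [Group X] [Finite X] {p : ℕ} [Fact p.Prime]

/-- An abelian subgroup of largest order outside `O_p` gives an element of degree six on `O_p`. -/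
theorem exists_degree_six (hp : p ≠ 2) (S : Sylow p X) {A₁ : Subgroup X} (hA₁ : MaxAb (S : Subgroup X) A₁)
    (hA₁P : ¬ A₁ ≤ pCore p X) :
    ∃ g : X, g ∈ (S : Subgroup X) ∧ g ∉ pCore p X ∧
      ∀ U V : Subgroup X, Cfsg.IsChiefFactor U V → U ≤ pCore p X →
        Cfsg.iterCommutator U (zpowers g) 6 ≤ V := by
  obtain ⟨T, hT⟩ : ∃ T, T = pCore p X := ⟨_, rfl⟩
  rw [← hT] at hA₁P ⊢
  have hTp : IsPGroup p ↥T := hT ▸ Cfsg.Agent.Lib.LocalChar.pCore_isPGroup
  haveI hTn : T.Normal := hT ▸ Cfsg.Agent.Lib.LocalChar.pCore_normal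
  have hTS : T ≤ (S : Subgroup X) := hT ▸ Cfsg.Agent.Lib.LocalChar.pCore_le_sylow S
  obtain ⟨H, hchar, hpow, hab, hTH, hcent, haut⟩ := exists_critical_aut (p := p) hTp
  obtain ⟨Q, hQ⟩ : ∃ Q, Q = H.map T.subtype := ⟨_, rfl⟩
  have hQT : Q ≤ T := hQ ▸ map_subtype_le H
  have hsub : Q.subgroupOf T = H := hQ ▸ comap_map_eq_self_of_injective T.subtype_injective H
  have hchar' : (Q.subgroupOf T).Characteristic := hsub.symm ▸ hchar
  haveI hQn : Q.Normal := by
    rw [← subgroupOf_map_of_le hQT]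
    exact ConjAct.normal_of_characteristic_of_normal
  have hcA : ∀ x : ↥T, x ∈ centralizer (H : Set ↥T) ↔ (x : X) ∈ centralizer (Q : Set X) := by
    subst hQ
    intro x
    constructor
    · rintro hx _ ⟨a, ha, rfl⟩
      exact congrArg Subtype.val (hx a ha)
    · intro hx a ha
      exact Subtype.ext (hx _ ⟨a, ha, rfl⟩)
  have hmapZ : (H ⊓ centralizer (H : Set ↥T)).map T.subtype = Q ⊓ centralizer (Q : Set X) := by
    ext x
    constructor
    · rintro ⟨y, ⟨hy1, hy2⟩, rfl⟩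
      exact ⟨hQ ▸ ⟨y, hy1, rfl⟩, (hcA y).1 hy2⟩
    · rintro ⟨hx, hx2⟩
      obtain ⟨y, hy, rfl⟩ : x ∈ H.map T.subtype := hQ ▸ hx
      exact ⟨y, ⟨hy, (hcA y).2 hx2⟩, rfl⟩
  have hQ1 : ∀ a ∈ Q, a ^ p ∈ Q ⊓ centralizer (Q : Set X) := by
    intro a ha
    obtain ⟨y, hy, rfl⟩ : a ∈ H.map T.subtype := hQ ▸ ha
    rw [← hmapZ]
    exact ⟨y ^ p, hpow y hy, rfl⟩
  have hQ3 : ⁅T, Q⁆ ≤ Q ⊓ centralizer (Q : Set X) := by
    have e : T = (⊤ : Subgroup ↥T).map T.subtype := by rw [← MonoidHom.range_eq_map, Subgroup.range_subtype]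
    have h1 := Subgroup.map_mono (f := T.subtype) hTH
    rw [Subgroup.map_commutator, ← e, ← hQ, hmapZ] at h1
    exact h1
  have hQ2 : ⁅Q, Q⁆ ≤ centralizer (Q : Set X) :=
    (commutator_mono hQT le_rfl).trans (hQ3.trans inf_le_right)
  have hself : T ⊓ centralizer (Q : Set X) ≤ Q := fun x hx =>
    hQ ▸ (⟨⟨x, hx.1⟩, hcent ((hcA ⟨x, hx.1⟩).2 hx.2), rfl⟩ : x ∈ H.map T.subtype)
  have hQ4 : T ⊓ centralizer (Q : Set X) = Q ⊓ centralizer (Q : Set X) :=
    le_antisymm (le_inf hself inf_le_right) (inf_le_inf_right _ hQT)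
  have hQ5 : ∀ φ : MulAut ↥T, (orderOf φ).Coprime p → (∀ a : ↥T, (a : X) ∈ Q → φ a = a) → φ = 1 :=
    fun φ hφ hfix => haut φ hφ fun a ha => hfix a (hQ ▸ ⟨a, ha, rfl⟩)
  obtain ⟨A, ⟨hA, hAT⟩, hAmax⟩ := Set.exists_max_image
    {A : Subgroup X | MaxAb (S : Subgroup X) A ∧ ¬ A ≤ T}
    (fun A => Nat.card ↥(A ⊓ Q : Subgroup X)) (Set.toFinite _) ⟨A₁, hA₁, hA₁P⟩
  have hR : Repl p (S : Subgroup X) T Q A :=
    ⟨S.2, hTS, hQT, hTn, hself, hQ3.trans inf_le_right, hA, hAT, fun B hB hBT => hAmax B ⟨hB, hBT⟩⟩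
  haveI : OddTwo ↥Q :=
    { finite := inferInstance
      odd := by
        obtain ⟨k, hk⟩ := IsPGroup.iff_card.1 (hTp.to_le hQT)
        rw [hk]
        exact ((Fact.out : p.Prime).odd_of_ne_two hp).pow
      central := fun x y z => Subtype.ext (by
        have h1 : ⁅(x : X), (y : X)⁆ ∈ centralizer (Q : Set X) := hQ2 (commutator_mem_commutator x.2 y.2)
        rw [Subgroup.coe_mul, Subgroup.coe_mul, show ((⁅x, y⁆ : ↥Q) : X) = ⁅(x : X), (y : X)⁆ from
          map_commutatorElement Q.subtype x y]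
        exact (h1 z z.2).symm) }
  obtain ⟨g, hgA, hgT⟩ := SetLike.not_le_iff_exists.1 hAT
  have hgle : zpowers g ≤ A := zpowers_le.2 hgA
  have hmono : ∀ (N : Subgroup X) k, Cfsg.iterCommutator N (zpowers g) k ≤ Cfsg.iterCommutator N A k := by
    intro N k
    induction k with
    | zero => exact le_rfl
    | succ k ih => exact commutator_mono ih hgle
  have hj : ∀ U V : Subgroup X, Cfsg.IsChiefFactor U V → U ≤ Q ⊓ centralizer (Q : Set X) →
      Cfsg.iterCommutator U (zpowers g) 3 ≤ V := fun U V hUV hU =>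
    (hmono U 3).trans (hR.iter_three (hU.trans inf_le_left) (hU.trans inf_le_right) hUV.2.1 hUV.2.2.1 hUV.1.le
      (Cfsg.Agent.S2003.chief_commutator_le hTn hTp hUV ((hU.trans inf_le_left).trans hQT)))
  refine ⟨g, hA.le hgA, hgT, fun U V hUV hUT => ?_⟩
  refine Cfsg.Agent.S2003.result T hTp Q hQT hchar' hQ1 hQ2 hQ3 hQ4 hQ5 g 4 3 (by omega) (by omega) ?_ hj U V hUV hUT
  intro U V hUV hUQ
  haveI := hUV.2.1
  haveI := hUV.2.2.1
  haveI hZn : (Q ⊓ centralizer (Q : Set X)).Normal := inferInstance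
  rcases chief_split (Z := Q ⊓ centralizer (Q : Set X)) hUV with hs | hs
  · have hUeq : U = (U ⊓ (Q ⊓ centralizer (Q : Set X))) ⊔ V := le_antisymm hs (sup_le inf_le_left hUV.1.le)
    have hc : Cfsg.IsChiefFactor (U ⊓ (Q ⊓ centralizer (Q : Set X))) (V ⊓ (Q ⊓ centralizer (Q : Set X))) := by
      refine ⟨lt_of_le_of_ne (inf_le_inf_right _ hUV.1.le) ?_, inferInstance, inferInstance, ?_⟩
      · intro e
        apply hUV.1.ne
        rw [← e, sup_eq_right.2 inf_le_left] at hUeq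
        exact hUeq.symm
      · intro N hNn h1 h2
        haveI := hNn
        rcases Cfsg.Agent.S2003.chief_dichotomy hUV hNn (h2.trans inf_le_left) with e | e
        · refine Or.inr (le_antisymm h2 fun x hx => ?_)
          have hxX : x ∈ N ⊔ V := e.ge hx.1
          obtain ⟨a, ha, b, hb, rfl⟩ := mem_sup_of_normal_right.1 hxX
          exact N.mul_mem ha (h1 ⟨hb, (Subgroup.mul_mem_cancel_left _ (h2 ha).2).1 hx.2⟩)
        · exact Or.inl (le_antisymm (le_inf e (h2.trans inf_le_right)) h1)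
    have h3 := hj _ _ hc inf_le_right
    refine (Cfsg.Agent.S2003.iter_anti hUV.2.1 _ (by omega : 3 ≤ 4)).trans ?_
    rw [hUeq]
    exact (Cfsg.Agent.S2003.iter_sup _ _ V 3).trans (sup_le (h3.trans inf_le_left) le_rfl)
  · refine le_trans (le_inf (Cfsg.Agent.S2003.iter_le hUV.2.1 _ 4) (le_inf ?_ ?_)) hs
    · exact (Cfsg.Agent.S2003.iter_le hUV.2.1 _ 4).trans hUQ
    · exact ((Cfsg.Agent.S2003.iter_mono hUQ _ 4).trans (hmono Q 4)).trans hR.iter_four

/-- The abelian Thompson subgroup controls transfer for `p ≥ 7`. -/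
theorem ct_thompsonA (hp : 7 ≤ p) : CT {@Cfsg.thompsonSubgroupA} p X := by
  refine ct_of_no_minBad (G := X) (by rintro _ rfl; exact isCharPFunctor_thompsonA) (Set.singleton_nonempty _) ?_ X
    IsSec.refl
  intro Y _ _ _ S hS
  obtain ⟨A₁, hA₁, hA₁P⟩ : ∃ A₁, MaxAb (S : Subgroup Y) A₁ ∧ ¬ A₁ ≤ pCore p Y := by
    by_contra hcon
    push Not at hcon
    refine hS.not_normal (Set.mem_singleton _) ⟨fun x hx g => ?_⟩
    show g * x * g⁻¹ ∈ Cfsg.thompsonSubgroupAOf (S : Subgroup Y)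
    suffices h : Cfsg.thompsonSubgroupAOf (S : Subgroup Y) ≤
        (Cfsg.thompsonSubgroupAOf (S : Subgroup Y)).comap (MulAut.conj g).toMonoidHom from h hx
    refine thompsonSubgroupAOf_le_of_forall fun A hA => map_le_iff_le_comap.1 ?_
    refine MaxAb.le_thompsonSubgroupAOf ⟨?_, ?_, fun B hB hBc => ?_⟩
    · rintro _ ⟨a, ha, rfl⟩
      exact Cfsg.Agent.Lib.LocalChar.pCore_le_sylow S
        ((Cfsg.Agent.Lib.LocalChar.pCore_normal (p := p)).conj_mem a (hcon A hA ha) g)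
    · rintro _ ⟨a, ha, rfl⟩ _ ⟨b, hb, rfl⟩
      rw [← map_mul, hA.comm a ha b hb, map_mul]
    · rw [card_map_of_injective (MulAut.conj g).injective]
      exact hA.max B hB hBc
  obtain ⟨g, hgS, hgP, h6⟩ := exists_degree_six (by omega) S hA₁ hA₁P
  refine hS.not_engel hgS hgP fun U V hUV hUP => ?_
  exact (Cfsg.Agent.S2003.iter_anti hUV.2.1 _ (by omega : 6 ≤ p - 1)).trans (h6 U V hUV hUP)

end Cfsg.Agent.Lib.KInf
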